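import Cfsg.Agent.BlockThms.Dihedral.Family
import Cfsg.Agent.Invol.Section942
import Cfsg.Agent.CharArith.Basic

/-!
# Principal block characters on the sections of the nontrivial rotations
-/

set_option autoImplicit false

namespace Cfsg.Agent.BlockThms.Dihedral

open DihedralGroup Cfsg.Agent.Invol Cfsg.Agent
open scoped ComplexConjugate

universe u

variable {G : Type u} [Group G] [Fintype G] {P : Sylow 2 G} {k : ℕ}
  {ι : DihedralGroup (2 ^ k) →* G} {π : cJ ι →* DihedralGroup (2 ^ k)}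
  {M : Ideal Cfsg.AlgInt}

namespace Proj

variable (h : Proj ι π) (D : DData P k ι)
include h D

omit h D [Fintype G] in
theorem proj_eq_one_of_odd {y : cJ ι} (hy : ¬ 2 ∣ orderOf (y : G)) : π y = 1 := by
  have h1 : orderOf (π y) ∣ orderOf (y : G) := by
    rw [Subgroup.orderOf_coe]; exact orderOf_map_dvd π y
  have h2 : orderOf (π y) ∣ 2 ^ (k + 1) := by
    have := orderOf_dvd_natCard (π y)
    rwa [DihedralGroup.nat_card, ← pow_succ'] at this
  exact orderOf_eq_one_iff.1 (Nat.Coprime.eq_one_of_dvd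
    ((((Nat.prime_two.coprime_iff_not_dvd.2 hy).symm).pow_right (k + 1)).coprime_dvd_left h1) h2)

/-- Elements commuting with an element over a nontrivial rotation lie in `cJ`. -/
theorem centralizer_le {u : cJ ι} {i : ZMod (2 ^ k)} (hu : π u = r i) (hi : i ≠ 0) :
    Subgroup.centralizer ({(u : G)} : Set G) ≤ cJ ι := by
  intro c hc
  refine h.mem_cJ_of_conj D hu hi hu (mul_inv_eq_iff_eq_mul.2 ?_)
  exact Subgroup.mem_centralizer_singleton_iff.1 hc

omit h in
/-- The two-part of an element over a rotation. -/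
theorem exists_two_part {x : cJ ι} :
    ∃ u v : cJ ι, x = u * v ∧ (v : G) * u = u * v ∧ (u : G) = Blocks.pPartOf 2 (x : G) ∧
      (∃ j, orderOf (u : G) = 2 ^ j) ∧ ¬ 2 ∣ orderOf (v : G) ∧ π u = π x := by
  have := D.pos
  let u : cJ ι := ⟨Blocks.pPartOf 2 (x : G), Subgroup.pow_mem _ x.2 _⟩
  let v : cJ ι := ⟨Blocks.pPrimePartOf 2 (x : G), Subgroup.pow_mem _ x.2 _⟩
  have hxuv : x = u * v :=
    Subtype.ext (Blocks.pPartOf_mul_pPrimePartOf Nat.prime_two (x : G)).symm
  have hv : ¬ 2 ∣ orderOf (v : G) := Blocks.not_dvd_orderOf_pPrimePartOf Nat.prime_two _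
  refine ⟨u, v, hxuv, (Blocks.commute_pPartOf_pPrimePartOf (x : G)).symm.eq, rfl,
    Blocks.orderOf_pPartOf Nat.prime_two _, hv, ?_⟩
  rw [hxuv, map_mul, proj_eq_one_of_odd hv, mul_one]

/-- Principal block characters are constant above each nontrivial rotation. -/
theorem apply_eq_of_principal (hM : Cfsg.IsPModular 2 M) {χ : Cfsg.IrrCharacter G}
    (hχ : χ ∈ Cfsg.principalBlock M G) (x : kSub π) (hx : ridx π x ≠ 0) :
    (χ : G → ℂ) x = (χ : G → ℂ) (ι (r (ridx π x))) := by
  classical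
  obtain ⟨u, v, hxuv, hcomm, -, ⟨j, hj⟩, hv, hπu⟩ :=
    exists_two_part D (π := π) (x := ⟨x, kSub_le x.2⟩)
  rw [proj_kSub] at hπu
  have hle := h.centralizer_le D hπu hx
  let incl := Subgroup.inclusion hle
  let K : Subgroup (Subgroup.centralizer ({(u : G)} : Set G)) := (π.comp incl).ker
  have hK : ¬ 2 ∣ Nat.card K := by
    intro h2
    have := Fact.mk Nat.prime_two
    obtain ⟨c, hc⟩ := exists_prime_orderOf_dvd_card' 2 h2
    have h' := h.odd (incl c.1) c.2
    rw [orderOf_injective incl (Subgroup.inclusion_injective hle), Subgroup.orderOf_coe, hc] at h'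
    norm_num at h'
  have hvC : (v : G) ∈ Subgroup.centralizer ({(u : G)} : Set G) :=
    Subgroup.mem_centralizer_singleton_iff.2 hcomm
  have h1 := section_constant hM ⟨j, hj⟩ K hK hχ (v := ⟨v, hvC⟩)
    (show π (incl ⟨v, hvC⟩) = 1 from proj_eq_one_of_odd hv)
  have hcl := Char.isClassFunction_of_isIrr χ.2
  obtain ⟨g, -, hg⟩ := h.exists_conj_section D (x := u) (IsPGroup.of_card (n := j)
    (by rw [Nat.card_zpowers, ← hj, Subgroup.orderOf_coe]))
  have hg' : (g : G) * u * (g : G)⁻¹ = ι (r (ridx π x)) := by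
    have := congrArg Subtype.val hg
    rwa [hπu, coe_iotaC, Subgroup.coe_mul, Subgroup.coe_mul, Subgroup.coe_inv] at this
  have hxe : (x : G) = (u : G) * v := congrArg Subtype.val hxuv
  rw [hxe, h1, ← hg', hcl]

/-- Outside the principal block the sums above the nontrivial rotations vanish. -/
theorem fibre_sum_eq_zero [Fintype (kSub π)] (hM : Cfsg.IsPModular 2 M)
    {χ : Cfsg.IrrCharacter G} (hχ : χ ∉ Cfsg.principalBlock M G) {i : ZMod (2 ^ k)} (hi : i ≠ 0) :
    ∑ x ∈ fibre π i, (χ : G → ℂ) x = 0 := by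
  classical
  rw [← Finset.sum_fiberwise_of_maps_to (g := fun x : kSub π => Blocks.pPartOf 2 (x : G))
    (t := (fibre π i).image fun x : kSub π => Blocks.pPartOf 2 (x : G))
    fun x hx => Finset.mem_image_of_mem _ hx]
  refine Finset.sum_eq_zero fun w hw => ?_
  obtain ⟨x₀, hx₀, rfl⟩ := Finset.mem_image.1 hw
  have hi₀ : ridx π x₀ = i := (Finset.mem_filter.1 hx₀).2
  obtain ⟨u, -, -, -, hu, ⟨j, hj⟩, -, hπu⟩ :=
    exists_two_part D (π := π) (x := ⟨x₀, kSub_le x₀.2⟩)
  rw [proj_kSub, hi₀] at hπu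
  have hle := h.centralizer_le D hπu hi
  rw [show Blocks.pPartOf 2 (x₀ : G) = (u : G) from hu.symm]
  have hmemK : ∀ y : Subgroup.centralizer ({(u : G)} : Set G), ¬ 2 ∣ orderOf y →
      ∃ hm : (u : G) * y ∈ kSub π, ridx π ⟨_, hm⟩ = i := by
    intro y hy
    let yc : cJ ι := ⟨y, hle y.2⟩
    have hy' : π yc = 1 := proj_eq_one_of_odd
      (show ¬ 2 ∣ orderOf (y : G) by rwa [Subgroup.orderOf_coe])
    have hπ : π (u * yc) = r i := by rw [map_mul, hy', mul_one, hπu]
    have hm : (u : G) * y ∈ kSub π := mem_kSub_iff.2 ⟨(u * yc).2, i, hπ⟩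
    refine ⟨hm, ?_⟩
    show rotIdx (π (u * yc)) = i
    rw [hπ]; rfl
  refine Eq.trans ?_ (section_sum_eq_zero hM ⟨j, hj⟩ (u := (u : G)) hχ)
  refine Finset.sum_bij'
    (fun (x : kSub π) hx => (⟨Blocks.pPrimePartOf 2 (x : G), ?_⟩ :
      Subgroup.centralizer ({(u : G)} : Set G)))
    (fun (y : Subgroup.centralizer ({(u : G)} : Set G)) hy =>
      (⟨(u : G) * y, (hmemK y (Finset.mem_filter.1 hy).2).choose⟩ : kSub π))
    ?_ ?_ ?_ ?_ ?_
  · refine Subgroup.mem_centralizer_singleton_iff.2 ?_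
    rw [← (Finset.mem_filter.1 hx).2]
    exact (Blocks.commute_pPartOf_pPrimePartOf (x : G)).symm.eq
  · intro x _
    refine Finset.mem_filter.2 ⟨Finset.mem_univ _, ?_⟩
    rw [← Subgroup.orderOf_coe]
    exact Blocks.not_dvd_orderOf_pPrimePartOf Nat.prime_two _
  · intro y hy
    have hy2 := (Finset.mem_filter.1 hy).2
    refine Finset.mem_filter.2 ⟨Finset.mem_filter.2 ⟨Finset.mem_univ _,
      (hmemK y hy2).choose_spec⟩, ?_⟩
    exact (Blocks.parts_mul Nat.prime_two (Subgroup.mem_centralizer_singleton_iff.1 y.2).symm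
      ⟨j, hj⟩ (by rwa [Subgroup.orderOf_coe])).1
  · intro x hx
    refine Subtype.ext ?_
    show (u : G) * Blocks.pPrimePartOf 2 (x : G) = x
    rw [← (Finset.mem_filter.1 hx).2]
    exact Blocks.pPartOf_mul_pPrimePartOf Nat.prime_two _
  · intro y hy
    refine Subtype.ext ?_
    exact (Blocks.parts_mul Nat.prime_two (Subgroup.mem_centralizer_singleton_iff.1 y.2).symm
      ⟨j, hj⟩ (by rw [Subgroup.orderOf_coe]; exact (Finset.mem_filter.1 hy).2)).2
  · intro x hx
    show (χ : G → ℂ) x = (χ : G → ℂ) ((u : G) * Blocks.pPrimePartOf 2 (x : G))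
    rw [← (Finset.mem_filter.1 hx).2, Blocks.pPartOf_mul_pPrimePartOf Nat.prime_two]

variable (hM : Cfsg.IsPModular 2 M) {e : AddChar (ZMod (2 ^ k)) ℂ}
include hM

theorem classInner_fam_eq_zero {χ : Cfsg.IrrCharacter G} (hχ : χ ∉ Cfsg.principalBlock M G)
    (j : ZMod (2 ^ k)) : Cfsg.classInner (fam π e j) (χ : G → ℂ) = 0 := by
  classical
  rw [h.classInner_fam D j (Char.isClassFunction_of_isIrr χ.2)]
  refine mul_eq_zero_of_right _ (Finset.sum_eq_zero fun i _ => ?_)
  by_cases hi : i = 0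
  · rw [hi, mul_zero, AddChar.map_zero_eq_one, sub_self, zero_mul]
  · rw [← map_sum, h.fibre_sum_eq_zero D hM hχ hi, map_zero, mul_zero]

theorem mem_principal_of_mult_ne_zero {χ : Cfsg.IrrCharacter G} {j : ZMod (2 ^ k)}
    (hj : Cfsg.classInner (fam π e j) (χ : G → ℂ) ≠ 0) : χ ∈ Cfsg.principalBlock M G :=
  by_contra fun hn => hj (h.classInner_fam_eq_zero D hM hn j)

theorem classInner_fam_principal {χ : Cfsg.IrrCharacter G} (hχ : χ ∈ Cfsg.principalBlock M G)
    (j : ZMod (2 ^ k)) :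
    Cfsg.classInner (fam π e j) (χ : G → ℂ) =
      ((2 : ℂ) ^ k)⁻¹ * ∑ i, (1 - e (j * i)) * conj ((χ : G → ℂ) (ι (r i))) :=
  h.classInner_fam_const D j (Char.isClassFunction_of_isIrr χ.2)
    (v := fun i => (χ : G → ℂ) (ι (r i))) (fun x hx => h.apply_eq_of_principal D hM hχ x hx)

/-- The values on the nontrivial rotations from the multiplicities. -/
theorem value_eq (he : e.IsPrimitive) {χ : Cfsg.IrrCharacter G}
    (hχ : χ ∈ Cfsg.principalBlock M G) {s : ZMod (2 ^ k)} (hs : s ≠ 0) :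
    (χ : G → ℂ) (ι (r s)) =
      -∑ j, e (j * s) * conj (Cfsg.classInner (fam π e j) (χ : G → ℂ)) := by
  classical
  set v : ZMod (2 ^ k) → ℂ := fun i => (χ : G → ℂ) (ι (r i)) with hv
  show v s = _
  have hcol : ∀ i, ∑ j, e (j * s) * (1 - e (-(j * i))) = -(if s = i then (2 : ℂ) ^ k else 0) := by
    intro i
    have : ∀ j, e (j * s) * (1 - e (-(j * i))) = e (s * j) - e ((s - i) * j) := fun j => by
      rw [mul_sub, mul_one, ← AddChar.map_add_eq_mul, mul_comm j s,
        show s * j + -(j * i) = (s - i) * j by ring]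
    rw [Finset.sum_congr rfl fun j _ => this j, Finset.sum_sub_distrib, sum_apply_mul he,
      sum_apply_mul he, if_neg hs, zero_sub, Nat.cast_pow, Nat.cast_ofNat]
    simp only [sub_eq_zero]
  have hm : ∀ j, e (j * s) * conj (Cfsg.classInner (fam π e j) (χ : G → ℂ)) =
      ((2 : ℂ) ^ k)⁻¹ * ∑ i, e (j * s) * (1 - e (-(j * i))) * v i := by
    intro j
    rw [h.classInner_fam_principal D hM hχ j]
    simp only [map_mul, map_inv₀, map_pow, map_ofNat, map_sum, map_sub, map_one, conj_apply_eq,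
      Complex.conj_conj, Finset.mul_sum]
    exact Finset.sum_congr rfl fun i _ => by ring
  rw [Finset.sum_congr rfl fun j _ => hm j, ← Finset.mul_sum, Finset.sum_comm]
  simp only [← Finset.sum_mul, hcol, neg_mul, Finset.sum_neg_distrib, ite_mul, zero_mul,
    Finset.sum_ite_eq, Finset.mem_univ, if_true, mul_neg, neg_neg]
  rw [← mul_assoc, inv_mul_cancel₀ (pow_ne_zero _ two_ne_zero), one_mul]

end Proj

end Cfsg.Agent.BlockThms.Dihedral
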