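import Cfsg.Agent.BlockThms.Dihedral.Setup
import Cfsg.Agent.Invol.SectionInduce
import Mathlib.NumberTheory.LegendreSymbol.AddCharacter

/-!
# The exceptional family of generalized characters attached to a dihedral Sylow subgroup

`fam π e j` is induced from `kSub π` from one minus the linear character `x ↦ e (j * ridx x)`.
-/

set_option autoImplicit false

namespace Cfsg.Agent.BlockThms.Dihedral

open DihedralGroup Cfsg.Agent.Invol Cfsg.Agent
open scoped ComplexConjugate

universe u

section AddChar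

variable {N : ℕ} [NeZero N] (e : AddChar (ZMod N) ℂ)

theorem conj_apply_eq (a : ZMod N) : conj (e a) = e (-a) := by
  rw [AddChar.map_neg_eq_inv, Complex.inv_eq_conj (AddChar.norm_apply e a)]

theorem sum_apply_mul {e : AddChar (ZMod N) ℂ} (he : e.IsPrimitive) (j : ZMod N) :
    ∑ i, e (j * i) = if j = 0 then (N : ℂ) else 0 := by
  have h := AddChar.sum_mulShift j he
  simp only [ZMod.card] at h
  rw [Finset.sum_congr rfl fun i _ => show e (j * i) = e (i * j) by rw [mul_comm], h]
  split_ifs <;> simp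

/-- The common value of the induced function over the rotation `i`. -/
noncomputable def fval (j i : ZMod N) : ℂ := 2 - e (j * i) - e (-(j * i))

theorem fval_zero_right (j : ZMod N) : fval e j 0 = 0 := by
  rw [fval, mul_zero, neg_zero, AddChar.map_zero_eq_one]; norm_num

theorem conj_fval (j i : ZMod N) : conj (fval e j i) = fval e j i := by
  simp only [fval, map_sub, map_ofNat, conj_apply_eq, neg_neg]
  ring

/-- The inner product of two members of the family, on the rotations. -/
theorem sum_one_sub_mul_fval {e : AddChar (ZMod N) ℂ} (he : e.IsPrimitive) {a b : ZMod N}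
    (ha : a ≠ 0) (hb : b ≠ 0) :
    ∑ i, (1 - e (a * i)) * fval e b i =
      (N : ℂ) * (2 + (if a = b then 1 else 0) + (if a = -b then 1 else 0)) := by
  have hterm : ∀ i, (1 - e (a * i)) * fval e b i =
      2 - e (b * i) - e (-b * i) - 2 * e (a * i) + e ((a + b) * i) + e ((a - b) * i) := by
    intro i
    rw [fval, show (a + b) * i = a * i + b * i by ring, show (a - b) * i = a * i + -(b * i) by ring,
      neg_mul, AddChar.map_add_eq_mul, AddChar.map_add_eq_mul]
    ring
  simp only [hterm, Finset.sum_add_distrib, Finset.sum_sub_distrib, ← Finset.mul_sum,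
    sum_apply_mul he, Finset.sum_const, Finset.card_univ, ZMod.card, nsmul_eq_mul]
  have h1 : a + b = 0 ↔ a = -b := eq_neg_iff_add_eq_zero.symm
  simp only [if_neg ha, if_neg hb, if_neg (neg_ne_zero.2 hb), h1, sub_eq_zero, mul_add, mul_ite,
    mul_one, mul_zero, sub_zero]
  ring

end AddChar

variable {G : Type u} [Group G] {P : Sylow 2 G} {k : ℕ} {ι : DihedralGroup (2 ^ k) →* G}
  {π : cJ ι →* DihedralGroup (2 ^ k)}

/-- The linear character of `kSub` belonging to `j`. -/
noncomputable def muHom (π : cJ ι →* DihedralGroup (2 ^ k)) (e : AddChar (ZMod (2 ^ k)) ℂ)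
    (j : ZMod (2 ^ k)) : kSub π →* ℂˣ :=
  MonoidHom.toHomUnits
    { toFun := fun x : kSub π => e (j * ridx π x)
      map_one' := by
        show e (j * ridx π 1) = 1
        have h1 : ridx π 1 = 0 := by
          have h2 := ridx_mul (π := π) 1 1
          rw [one_mul] at h2
          simpa using h2
        rw [h1, mul_zero, AddChar.map_zero_eq_one]
      map_mul' := fun x y => by rw [ridx_mul, mul_add, AddChar.map_add_eq_mul] }

theorem muHom_apply (e : AddChar (ZMod (2 ^ k)) ℂ) (j : ZMod (2 ^ k)) (x : kSub π) :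
    (muHom π e j x : ℂ) = e (j * ridx π x) := rfl

/-- The induced generalized character. -/
noncomputable def fam [Fintype G] (π : cJ ι →* DihedralGroup (2 ^ k))
    (e : AddChar (ZMod (2 ^ k)) ℂ) (j : ZMod (2 ^ k)) : G → ℂ :=
  secInd (kSub π) (muHom π e j)

theorem two_card_kSub [Finite G] (h : Proj ι π) (D : DData P k ι) :
    Nat.card (cJ ι) = 2 * Nat.card (kSub π) := by
  have hsurj : Function.Surjective π := fun d => ⟨iotaC D d, h.proj_iotaC D d⟩
  have h2 : (rotSub k).index = 2 := by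
    refine Subgroup.index_eq_two_iff.2 ⟨sr 0, fun d => ?_⟩
    rcases d with i | i
    · refine Or.inr ⟨⟨i, rfl⟩, ?_⟩
      rw [r_mul_sr]
      rintro ⟨a, ha⟩
      cases ha
    · refine Or.inl ⟨?_, ?_⟩
      · rw [sr_mul_sr]; exact ⟨_, rfl⟩
      · rintro ⟨a, ha⟩
        cases ha
  have e : Nat.card (kSub π) = Nat.card ((rotSub k).comap π) :=
    Subgroup.card_map_of_injective (cJ ι).subtype_injective
  rw [e, ← Subgroup.card_mul_index ((rotSub k).comap π),
    Subgroup.index_comap_of_surjective _ hsurj, h2, mul_comm]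

/-- The elements of `kSub` above the rotation `i`. -/
noncomputable def fibre (π : cJ ι →* DihedralGroup (2 ^ k)) [Fintype (kSub π)]
    (i : ZMod (2 ^ k)) : Finset (kSub π) :=
  Finset.univ.filter fun x => ridx π x = i

variable [Finite G]

/-- The rotation `i` as an element of `kSub`. -/
def rotK (h : Proj ι π) (D : DData P k ι) (i : ZMod (2 ^ k)) : kSub π :=
  ⟨ι (r i), mem_kSub_iff.2 ⟨iota_mem D _, i, h.sec _ _⟩⟩

theorem ridx_rotK (h : Proj ι π) (D : DData P k ι) (i : ZMod (2 ^ k)) :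
    ridx π (rotK h D i) = i := by
  show rotIdx (π ⟨ι (r i), iota_mem D _⟩) = i
  rw [h.sec (r i) (iota_mem D _)]
  rfl

theorem card_fibre (h : Proj ι π) (D : DData P k ι) [Fintype (kSub π)] (i : ZMod (2 ^ k)) :
    (fibre π i).card = (fibre π 0).card := by
  refine Finset.card_bij (fun x _ => rotK h D (-i) * x) (fun x hx => ?_)
    (fun _ _ _ _ hxy => mul_left_cancel hxy) fun y hy => ⟨rotK h D i * y, ?_, ?_⟩
  · simp only [fibre, Finset.mem_filter, Finset.mem_univ, true_and] at hx ⊢
    rw [ridx_mul, ridx_rotK, hx, neg_add_cancel]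
  · simp only [fibre, Finset.mem_filter, Finset.mem_univ, true_and] at hy ⊢
    rw [ridx_mul, ridx_rotK, hy, add_zero]
  · rw [← mul_assoc]
    have : rotK h D (-i) * rotK h D i = 1 := Subtype.ext (by
      show ι (r (-i)) * ι (r i) = 1
      rw [← map_mul, r_mul_r, neg_add_cancel, ← one_def, map_one])
    rw [this, one_mul]

theorem card_kSub (h : Proj ι π) (D : DData P k ι) [Fintype (kSub π)] :
    Nat.card (kSub π) = 2 ^ k * (fibre π 0).card := by
  rw [Nat.card_eq_fintype_card, ← Finset.card_univ,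
    Finset.card_eq_sum_card_fiberwise (f := ridx π) (t := Finset.univ) (fun _ _ => Finset.mem_univ _)]
  show ∑ i, (fibre π i).card = _
  rw [Finset.sum_congr rfl fun i _ => card_fibre h D i, Finset.sum_const, Finset.card_univ, ZMod.card,
    smul_eq_mul]

theorem ridx_eq_zero_of_odd {x : kSub π} (hx : Odd (orderOf x)) : ridx π x = 0 := by
  have h1 : orderOf (π ⟨x, kSub_le x.2⟩) ∣ orderOf x := by
    refine (orderOf_map_dvd π _).trans (dvd_of_eq ?_)
    exact (Subgroup.orderOf_coe _).symm.trans (Subgroup.orderOf_coe x)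
  have h2 : orderOf (π ⟨x, kSub_le x.2⟩) ∣ 2 ^ (k + 1) := by
    have := orderOf_dvd_natCard (π ⟨x, kSub_le x.2⟩)
    rwa [DihedralGroup.nat_card, ← pow_succ'] at this
  have h3 := ((Nat.coprime_two_right.2 hx).pow_right (k + 1))
  have h4 := Nat.Coprime.eq_one_of_dvd (h3.coprime_dvd_left h1) h2
  rw [orderOf_eq_one_iff, proj_kSub, one_def, r.injEq] at h4
  exact h4

namespace Proj

variable [Fintype G] {e : AddChar (ZMod (2 ^ k)) ℂ} (h : Proj ι π) (D : DData P k ι)
include h D

omit [Fintype G] in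
theorem sectionData (j : ZMod (2 ^ k)) : SectionData (kSub π) (muHom π e j) (cJ ι) := by
  refine ⟨kSub_le, two_card_kSub h D, fun x hx g hg hg' => ?_, fun g hg x => ?_⟩
  · refine h.mem_cJ_of_conj D (x := ⟨x, kSub_le x.2⟩) (y := ⟨_, kSub_le hg⟩) (proj_kSub x) ?_
      (proj_kSub ⟨_, hg⟩) rfl
    intro h0
    exact hx (Units.ext (by rw [muHom_apply, h0, mul_zero, AddChar.map_zero_eq_one]; rfl))
  · let xc : cJ ι := ⟨x, kSub_le x.2⟩
    let gc : cJ ι := ⟨g, hg⟩
    have hπ : π (gc * xc * gc⁻¹) = π gc * r (ridx π x) * (π gc)⁻¹ := by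
      rw [map_mul, map_mul, map_inv, proj_kSub]
    rcases hgd : π gc with a | a
    · have hπ' : π (gc * xc * gc⁻¹) = r (ridx π x) := by
        rw [hπ, hgd, r_mul_r, inv_r, r_mul_r]; congr 1; ring
      have hm : g * (x : G) * g⁻¹ ∈ kSub π := mem_kSub_iff.2 ⟨(gc * xc * gc⁻¹).2, _, hπ'⟩
      have hidx : ridx π ⟨_, hm⟩ = ridx π x := by
        show rotIdx (π (gc * xc * gc⁻¹)) = _
        rw [hπ']; rfl
      refine ⟨hm, fun _ => Units.ext (by rw [muHom_apply, muHom_apply, hidx]), fun hgK => ?_⟩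
      exact absurd (mem_kSub_iff.2 ⟨hg, a, hgd⟩) hgK
    · have hπ' : π (gc * xc * gc⁻¹) = r (-ridx π x) := by
        rw [hπ, hgd, sr_mul_r, inv_sr, sr_mul_sr]; congr 1; ring
      have hm : g * (x : G) * g⁻¹ ∈ kSub π := mem_kSub_iff.2 ⟨(gc * xc * gc⁻¹).2, _, hπ'⟩
      have hidx : ridx π ⟨_, hm⟩ = -ridx π x := by
        show rotIdx (π (gc * xc * gc⁻¹)) = _
        rw [hπ']; rfl
      refine ⟨hm, fun hgK => ?_, fun _ => Units.ext ?_⟩
      · obtain ⟨_, b, hb⟩ := mem_kSub_iff.1 hgK
        exact DihedralGroup.noConfusion rfl (heq_of_eq (hgd.symm.trans hb))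
      · rw [muHom_apply, Units.val_inv_eq_inv_val, muHom_apply, hidx, mul_neg,
          AddChar.map_neg_eq_inv]

omit h D in
theorem isGeneralized_fam (j : ZMod (2 ^ k)) : Cfsg.IsGeneralizedCharacter G (fam π e j) :=
  isGeneralized_secInd _ _

omit h D in
theorem isClassFunction_fam (j : ZMod (2 ^ k)) : Cfsg.IsClassFunction G (fam π e j) :=
  Char.IsGen.isClassFunction (isGeneralized_secInd _ _)

omit h D in
theorem fam_eq_zero {g : G} (j : ZMod (2 ^ k))
    (hg : ∀ (a : G) (ha : a * g * a⁻¹ ∈ kSub π), ridx π ⟨_, ha⟩ = 0) : fam π e j g = 0 :=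
  secInd_eq_zero _ _ fun a ha => Units.ext (by
    rw [muHom_apply, hg a ha, mul_zero, AddChar.map_zero_eq_one]; rfl)

omit h D in
theorem fam_odd {g : G} (hg : Odd (orderOf g)) (j : ZMod (2 ^ k)) : fam π e j g = 0 :=
  fam_eq_zero j fun a ha => ridx_eq_zero_of_odd (by
    rw [← Subgroup.orderOf_coe]; show Odd (orderOf (a * g * a⁻¹))
    rwa [← MulAut.conj_apply, MulEquiv.orderOf_eq])

theorem fam_kSub (j : ZMod (2 ^ k)) (x : kSub π) :
    fam π e j (x : G) = fval e j (ridx π x) := by
  by_cases hx : muHom π e j x = 1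
  · have hx' : e (j * ridx π x) = 1 := by rw [← muHom_apply, hx]; rfl
    rw [fval, AddChar.map_neg_eq_inv, hx', inv_one, show (2 : ℂ) - 1 - 1 = 0 by norm_num]
    refine secInd_eq_zero _ _ fun a ha => ?_
    by_contra hne
    have ha' : a⁻¹ * (a * (x : G) * a⁻¹) * a⁻¹⁻¹ = (x : G) := by group
    have hy0 : ridx π ⟨_, ha⟩ ≠ 0 := fun h0 => hne (Units.ext (by
      rw [muHom_apply, h0, mul_zero, AddChar.map_zero_eq_one]; rfl))
    have hmem : a⁻¹ ∈ cJ ι := h.mem_cJ_of_conj D (x := ⟨_, kSub_le ha⟩) (y := ⟨x, kSub_le x.2⟩)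
      (proj_kSub ⟨_, ha⟩) hy0 (proj_kSub x) ha'
    obtain ⟨hm, h1, h2⟩ := (h.sectionData D j (e := e)).act a (inv_mem_iff.1 hmem) x
    by_cases haK : a ∈ kSub π
    · exact hne ((h1 haK).trans hx)
    · exact hne ((h2 haK).trans (by rw [hx, inv_one]))
  · rw [fam, (h.sectionData D j).secInd_eq hx, muHom_apply, fval, AddChar.map_neg_eq_inv]

/-- Multiplicities through the sums over the fibres. -/
theorem classInner_fam [Fintype (kSub π)] (j : ZMod (2 ^ k)) {f : G → ℂ}
    (hf : Cfsg.IsClassFunction G f) :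
    Cfsg.classInner (fam π e j) f = (Nat.card (kSub π) : ℂ)⁻¹ *
      ∑ i, (1 - e (j * i)) * ∑ x ∈ fibre π i, conj (f x) := by
  rw [fam, secInd, Char.classInner_indFun_left _ _ hf, Cfsg.classInner]
  congr 1
  simp only [Finset.mul_sum]
  rw [← Finset.sum_fiberwise_of_maps_to (g := ridx π) (t := Finset.univ)
    (fun _ _ => Finset.mem_univ _)]
  refine Finset.sum_congr rfl fun i _ => Finset.sum_congr rfl fun x hx => ?_
  rw [muHom_apply, (Finset.mem_filter.1 hx).2]

/-- Multiplicities in a class function constant on the fibres. -/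
theorem classInner_fam_const (j : ZMod (2 ^ k)) {f : G → ℂ} (hf : Cfsg.IsClassFunction G f)
    {v : ZMod (2 ^ k) → ℂ} (hv : ∀ x : kSub π, ridx π x ≠ 0 → f x = v (ridx π x)) :
    Cfsg.classInner (fam π e j) f =
      ((2 : ℂ) ^ k)⁻¹ * ∑ i, (1 - e (j * i)) * conj (v i) := by
  classical
  rw [h.classInner_fam D j hf]
  have hterm : ∀ i, (1 - e (j * i)) * ∑ x ∈ fibre π i, conj (f x) =
      ((fibre π 0).card : ℂ) * ((1 - e (j * i)) * conj (v i)) := by
    intro i
    by_cases hi : i = 0
    · subst hi; simp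
    · rw [Finset.sum_congr rfl fun x hx => by
        rw [hv x (by rw [(Finset.mem_filter.1 hx).2]; exact hi), (Finset.mem_filter.1 hx).2],
        Finset.sum_const, card_fibre h D, nsmul_eq_mul]
      ring
  rw [Finset.sum_congr rfl fun i _ => hterm i, ← Finset.mul_sum, card_kSub h D]
  push_cast
  have h0 : ((fibre π 0).card : ℂ) ≠ 0 := Nat.cast_ne_zero.2 (Finset.card_ne_zero.2
    ⟨1, by
      simp only [fibre, Finset.mem_filter, Finset.mem_univ, true_and]
      exact ridx_eq_zero_of_odd (by simp)⟩)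
  field_simp

variable (he : e.IsPrimitive)
include he

theorem classInner_fam_fam {a b : ZMod (2 ^ k)} (ha : a ≠ 0) (hb : b ≠ 0) :
    Cfsg.classInner (fam π e a) (fam π e b) =
      2 + (if a = b then 1 else 0) + (if a = -b then 1 else 0) := by
  rw [h.classInner_fam_const D a (isClassFunction_fam b) (v := fval e b)
    (fun x _ => h.fam_kSub D b x)]
  simp only [conj_fval]
  rw [sum_one_sub_mul_fval he ha hb, Nat.cast_pow, Nat.cast_ofNat, inv_mul_cancel_left₀]
  exact pow_ne_zero _ two_ne_zero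

theorem classInner_fam_one {a : ZMod (2 ^ k)} (ha : a ≠ 0) :
    Cfsg.classInner (fam π e a) (fun _ => (1 : ℂ)) = 1 := by
  rw [h.classInner_fam_const D a (f := fun _ : G => (1 : ℂ)) (fun _ _ => rfl)
    (v := fun _ => 1) (fun _ _ => rfl)]
  simp only [map_one, mul_one, Finset.sum_sub_distrib, sum_apply_mul he, if_neg ha, sub_zero,
    Finset.sum_const, Finset.card_univ, ZMod.card, nsmul_eq_mul, Nat.cast_pow, Nat.cast_ofNat]
  exact inv_mul_cancel₀ (pow_ne_zero _ two_ne_zero)

end Proj

end Cfsg.Agent.BlockThms.Dihedral
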