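import Cfsg.Agent.BlockThms.Dihedral.Family
import Cfsg.Agent.Char.NormalAbelianSylow
import Cfsg.Agent.Blocks.Idempotent

/-!
# The constituents of the exceptional family

The combinatorics of the supports of the generalized characters `fam π e j`.
-/

set_option autoImplicit false

namespace Cfsg.Agent.BlockThms.Dihedral

open DihedralGroup Cfsg.Agent.Invol Cfsg.Agent
open scoped ComplexConjugate

universe u

/-- The indices of the members with two nontrivial constituents. -/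
def Good {k : ℕ} (j : ZMod (2 ^ k)) : Prop := j ≠ 0 ∧ j ≠ dh k

theorem Good.ne_neg {k : ℕ} (hk : 1 ≤ k) {j : ZMod (2 ^ k)} (hj : Good j) : j ≠ -j := by
  intro h
  rcases two_mul_zero hk (show 2 * j = 0 by linear_combination h) with h' | h'
  exacts [hj.1 h', hj.2 h']

theorem neg_dh {k : ℕ} (hk : 1 ≤ k) : -(dh k) = dh k := by linear_combination -two_dh hk

theorem natCast_eq_imp {k a b : ℕ} (ha : a < 2 ^ k) (hb : b < 2 ^ k)
    (h : (a : ZMod (2 ^ k)) = b) : a = b := by
  have := congrArg ZMod.val h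
  rwa [ZMod.val_natCast_of_lt ha, ZMod.val_natCast_of_lt hb] at this

theorem natCast_ne_neg {k a b : ℕ} (ha : 0 < a) (hab : a + b < 2 ^ k) :
    (a : ZMod (2 ^ k)) ≠ -(b : ZMod (2 ^ k)) := by
  intro h
  have h' : ((a + b : ℕ) : ZMod (2 ^ k)) = 0 := by push_cast; linear_combination h
  have := Nat.eq_zero_of_dvd_of_lt ((ZMod.natCast_eq_zero_iff _ _).1 h') hab
  omega

theorem natCast_dh (k : ℕ) : ((2 ^ (k - 1) : ℕ) : ZMod (2 ^ k)) = dh k := by
  rw [dh]; push_cast; rfl

theorem good_natCast {k a : ℕ} (ha : 0 < a) (ha' : a < 2 ^ (k - 1)) :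
    Good (a : ZMod (2 ^ k)) := by
  have hlt : 2 ^ (k - 1) ≤ 2 ^ k := Nat.pow_le_pow_right (by norm_num) (by omega)
  refine ⟨fun h => ?_, fun h => ?_⟩
  · have := natCast_eq_imp (by omega) (pow_pos two_pos k) (h.trans Nat.cast_zero.symm)
    omega
  · rcases Nat.eq_zero_or_pos k with hk | hk
    · subst hk; simp at ha'; omega
    have h2 : 2 ^ (k - 1) < 2 ^ k := Nat.pow_lt_pow_right one_lt_two (by omega)
    have := natCast_eq_imp (by omega) h2 (h.trans (natCast_dh k).symm)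
    omega

variable {G : Type u} [Group G] [Fintype G] {k : ℕ} {ι : DihedralGroup (2 ^ k) →* G}

open scoped _root_.Classical in
/-- A labelling of the constituents. -/
structure Labels (π : cJ ι →* DihedralGroup (2 ^ k)) (e : AddChar (ZMod (2 ^ k)) ℂ)
    (χ₁ χ₂ χ₃ : Cfsg.IrrCharacter G) (η : ZMod (2 ^ k) → Cfsg.IrrCharacter G)
    (δ₁ δ₂ δ₃ : ℤ) : Prop where
  sign₁ : δ₁ = 1 ∨ δ₁ = -1
  sign₂ : δ₂ = 1 ∨ δ₂ = -1
  sign₃ : δ₃ = 1 ∨ δ₃ = -1
  ne_one₁ : χ₁ ≠ Blocks.triv G
  ne_one₂ : χ₂ ≠ Blocks.triv G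
  ne_one₃ : χ₃ ≠ Blocks.triv G
  ne₁₂ : χ₁ ≠ χ₂
  ne₁₃ : χ₁ ≠ χ₃
  ne₂₃ : χ₂ ≠ χ₃
  eta_ne : ∀ j, Good j → η j ≠ χ₁ ∧ η j ≠ χ₂ ∧ η j ≠ χ₃ ∧ η j ≠ Blocks.triv G
  eta_eq : ∀ a b, Good a → Good b → η a = η b → a = b ∨ a = -b
  eta_neg : ∀ a, Good a → η (-a) = η a
  mult_eps : ∀ χ, χ ≠ Blocks.triv G → Cfsg.classInner (fam π e (dh k)) (χ : G → ℂ) =
    if χ = χ₁ then (δ₁ : ℂ) else if χ = χ₂ then (δ₂ : ℂ) else if χ = χ₃ then (δ₃ : ℂ) else 0
  mult_good : ∀ a, Good a → ∀ χ, χ ≠ Blocks.triv G → Cfsg.classInner (fam π e a) (χ : G → ℂ) =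
    if χ = χ₁ then (δ₁ : ℂ) else if χ = η a then -(δ₁ : ℂ) else 0

variable {P : Sylow 2 G} {π : cJ ι →* DihedralGroup (2 ^ k)} {e : AddChar (ZMod (2 ^ k)) ℂ}

theorem exists_labels (h : Proj ι π) (D : DData P k ι) (hk : 2 ≤ k) (he : e.IsPrimitive) :
    ∃ χ₁ χ₂ χ₃ η δ₁ δ₂ δ₃, Labels π e χ₁ χ₂ χ₃ η δ₁ δ₂ δ₃ := by
  classical
  have hk1 := D.pos
  choose m hm _ _ using fun a : ZMod (2 ^ k) =>
    Char.IsGen.exists_mult (Proj.isGeneralized_fam (π := π) (e := e) a)
  set o := Blocks.triv G with ho'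
  have ho : ∀ a, a ≠ 0 → m a o = 1 := by
    intro a ha
    have h1 : Cfsg.classInner (fam π e a) (o : G → ℂ) = 1 := h.classInner_fam_one D he ha
    rw [hm a o] at h1
    exact_mod_cast h1
  have hprod : ∀ a b, a ≠ 0 → b ≠ 0 → ∑ χ ∈ Finset.univ.erase o, m a χ * m b χ =
      1 + (if a = b then 1 else 0) + (if a = -b then 1 else 0) := by
    intro a b ha hb
    have h1 := h.classInner_fam_fam D he ha hb
    rw [Char.classInner_eq_sum (Proj.isClassFunction_fam a)] at h1
    have h2 : ∀ χ : Cfsg.IrrCharacter G, Cfsg.classInner (fam π e a) (χ : G → ℂ) *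
        Cfsg.classInner (χ : G → ℂ) (fam π e b) = ((m a χ * m b χ : ℤ) : ℂ) := fun χ => by
      rw [← Char.classInner_conj_symm (fam π e b) (χ : G → ℂ), hm, hm, map_intCast, Int.cast_mul]
    rw [Finset.sum_congr rfl fun χ _ => h2 χ, ← Int.cast_sum] at h1
    have h3 : ∑ χ, m a χ * m b χ = 2 + (if a = b then 1 else 0) + (if a = -b then 1 else 0) := by
      apply Int.cast_injective (α := ℂ)
      rw [h1]
      split_ifs <;> norm_num
    rw [← Finset.add_sum_erase _ _ (Finset.mem_univ o), ho a ha, ho b hb] at h3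
    linarith
  let T : ZMod (2 ^ k) → Finset (Cfsg.IrrCharacter G) := fun a =>
    (Finset.univ.erase o).filter fun χ => m a χ ≠ 0
  have hzero : ∀ a χ, χ ≠ o → χ ∉ T a → m a χ = 0 := by
    intro a χ hne hχ
    simpa [T, hne] using hχ
  have hTsum : ∀ a b, ∑ χ ∈ T a, m a χ * m b χ = ∑ χ ∈ Finset.univ.erase o, m a χ * m b χ :=
    fun a b => Finset.sum_filter_of_ne fun χ _ hn h0 => hn (by rw [h0, zero_mul])
  have hunit : ∀ a, a ≠ 0 → ∀ χ ∈ T a, m a χ = 1 ∨ m a χ = -1 := by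
    intro a ha χ hχ
    have h1 := Finset.single_le_sum (f := fun ψ => m a ψ * m a ψ)
      (fun ψ _ => mul_self_nonneg _) hχ
    rw [hTsum, hprod a a ha ha] at h1
    have h3 : m a χ * m a χ ≤ 3 := h1.trans (by split_ifs <;> norm_num)
    have h0 := (Finset.mem_filter.1 hχ).2
    have : -1 ≤ m a χ ∧ m a χ ≤ 1 := ⟨by nlinarith, by nlinarith⟩
    omega
  have hcard : ∀ a, a ≠ 0 → ((T a).card : ℤ) = 1 + 1 + (if a = -a then 1 else 0) := by
    intro a ha
    have h1 := hprod a a ha ha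
    rw [← hTsum, if_pos rfl, Finset.sum_congr rfl fun χ hχ =>
      show m a χ * m a χ = 1 by rcases hunit a ha χ hχ with e1 | e1 <;> rw [e1] <;> norm_num,
      Finset.sum_const, nsmul_eq_mul, mul_one] at h1
    exact h1
  have hdh := dh_ne hk1
  have heps : (T (dh k)).card = 3 := by
    have := hcard _ hdh
    rw [if_pos (neg_dh hk1).symm] at this
    omega
  -- every good index
  have hgood : ∀ a, Good a → ∃ c η : Cfsg.IrrCharacter G, c ≠ η ∧ T a = {c, η} ∧ c ≠ o ∧ η ≠ o ∧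
      m a c = m (dh k) c ∧ m (dh k) η = 0 ∧ (m a c = 1 ∨ m a c = -1) ∧
      (m a η = 1 ∨ m a η = -1) := by
    intro a ha
    have h2 : (T a).card = 2 := by
      have := hcard a ha.1
      rw [if_neg (ha.ne_neg hk1)] at this
      omega
    obtain ⟨p, q, hpq, hT⟩ := Finset.card_eq_two.1 h2
    have hp : p ∈ T a := by rw [hT]; simp
    have hq : q ∈ T a := by rw [hT]; simp
    have hpo := (Finset.mem_erase.1 (Finset.mem_filter.1 hp).1).1
    have hqo := (Finset.mem_erase.1 (Finset.mem_filter.1 hq).1).1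
    have h1 := hprod a (dh k) ha.1 hdh
    rw [← hTsum, hT, Finset.sum_pair hpq, if_neg ha.2, neg_dh hk1, if_neg ha.2] at h1
    have hd : ∀ χ, χ ≠ o → m (dh k) χ = 1 ∨ m (dh k) χ = -1 ∨ m (dh k) χ = 0 := fun χ hne => by
      by_cases hχ : χ ∈ T (dh k)
      · rcases hunit _ hdh χ hχ with e1 | e1 <;> simp [e1]
      · exact Or.inr (Or.inr (hzero _ χ hne hχ))
    have up := hunit a ha.1 p hp
    have uq := hunit a ha.1 q hq
    rcases hd p hpo with e1 | e1 | e1
    · refine ⟨p, q, hpq, hT, hpo, hqo, ?_, ?_, up, uq⟩ <;>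
        rcases up with u1 | u1 <;> rcases uq with u2 | u2 <;> rcases hd q hqo with e2 | e2 | e2 <;>
          simp only [e1, e2, u1, u2] at h1 ⊢ <;> omega
    · refine ⟨p, q, hpq, hT, hpo, hqo, ?_, ?_, up, uq⟩ <;>
        rcases up with u1 | u1 <;> rcases uq with u2 | u2 <;> rcases hd q hqo with e2 | e2 | e2 <;>
          simp only [e1, e2, u1, u2] at h1 ⊢ <;> omega
    · refine ⟨q, p, hpq.symm, by rw [hT, Finset.pair_comm], hqo, hpo, ?_, e1, uq, up⟩
      rcases uq with u2 | u2 <;> rcases hd q hqo with e2 | e2 | e2 <;>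
        simp only [e1, e2, u2] at h1 ⊢ <;> omega
  have : Nonempty (Cfsg.IrrCharacter G) := ⟨Blocks.triv G⟩
  choose! c η hcη hT hco hηo hmc hmη huc huη using hgood
  have hcT : ∀ a, Good a → c a ∈ T a := fun a ha => by rw [hT a ha]; simp
  have hηT : ∀ a, Good a → η a ∈ T a := fun a ha => by rw [hT a ha]; simp
  have hmem : ∀ a, Good a → ∀ χ, χ ≠ o → m a χ ≠ 0 → χ = c a ∨ χ = η a := by
    intro a ha χ hne hmz
    have : χ ∈ T a := Finset.mem_filter.2 ⟨Finset.mem_erase.2 ⟨hne, Finset.mem_univ _⟩, hmz⟩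
    rw [hT a ha] at this
    simpa using this
  have hηc : ∀ a b, Good a → Good b → η a ≠ c b := fun a b ha hb he' => by
    have h1 := hmη a ha
    rw [he', ← hmc b hb] at h1
    rcases huc b hb with e1 | e1 <;> omega
  have hpair : ∀ a b, Good a → Good b →
      m a (c a) * m b (c a) + m a (η a) * m b (η a) =
        1 + (if a = b then 1 else 0) + (if a = -b then 1 else 0) := by
    intro a b ha hb
    have h1 := hprod a b ha.1 hb.1
    rwa [← hTsum, hT a ha, Finset.sum_pair (hcη a ha)] at h1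
  have hcne : ∀ a b, Good a → Good b → c a ≠ c b → m b (c a) = 0 := fun a b ha hb hne =>
    by_contra fun hz => (hmem b hb _ (hco a ha) hz).elim hne fun h' => hηc b a hb ha h'.symm
  -- two indices with different common constituents share the other one
  have hdiff : ∀ a b, Good a → Good b → c a ≠ c b →
      a ≠ b ∧ a ≠ -b ∧ η a = η b ∧ m a (η a) = m b (η b) := by
    intro a b ha hb hne
    have h1 := hpair a b ha hb
    rw [hcne a b ha hb hne, mul_zero, zero_add] at h1
    have hab : a ≠ b := fun he' => hne (by rw [he'])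
    have hbound : m a (η a) * m b (η a) ≤ 1 := by
      by_cases hz : m b (η a) = 0
      · rw [hz]; simp
      · rcases hmem b hb _ (hηo a ha) hz with h' | h'
        · exact absurd h' (hηc a b ha hb)
        · have u1 := huη a ha
          rw [h'] at u1 ⊢
          rcases u1 with u1 | u1 <;> rcases huη b hb with u2 | u2 <;> simp [u1, u2]
    have hanb : a ≠ -b := fun he' => by rw [if_neg hab, if_pos he'] at h1; omega
    rw [if_neg hab, if_neg hanb] at h1
    have hz : m b (η a) ≠ 0 := fun hz => by simp [hz] at h1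
    rcases hmem b hb _ (hηo a ha) hz with h' | h'
    · exact absurd h' (hηc a b ha hb)
    · refine ⟨hab, hanb, h', ?_⟩
      rw [h'] at h1 ⊢
      rcases huη b hb with u2 | u2 <;> rw [u2] at h1 <;> omega
  -- two indices with the same common constituent and the same other one
  have hsame : ∀ a b, Good a → Good b → c a = c b → η a = η b → a = b ∨ a = -b := by
    intro a b ha hb hc hη
    by_contra hne
    rw [not_or] at hne
    have h1 := hpair a b ha hb
    rw [if_neg hne.1, if_neg hne.2, hmc a ha, hc, hmc b hb, hη] at h1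
    rcases huc b hb with u1 | u1 <;> rw [hmc b hb] at u1 <;> rw [u1] at h1 <;>
      rcases huη b hb with u2 | u2 <;> rw [u2] at h1 <;>
        rcases huη a ha with u3 | u3 <;> rw [hη] at u3 <;> rw [u3] at h1 <;> omega
  -- degrees
  have hdeg : ∀ a, ∑ χ, m a χ * (Cfsg.charDegree (χ : G → ℂ) : ℤ) = 0 := by
    intro a
    apply Int.cast_injective (α := ℂ)
    push_cast
    have h1 := apply_eq_sum (Proj.isClassFunction_fam (π := π) (e := e) a) (1 : G)
    rw [Proj.fam_odd (by simp)] at h1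
    rw [← h1]
    exact Finset.sum_congr rfl fun χ _ => by rw [hm, Char.charDegree_spec']
  have hdeg' : ∀ a, a ≠ 0 →
      1 + ∑ χ ∈ T a, m a χ * (Cfsg.charDegree (χ : G → ℂ) : ℤ) = 0 := by
    intro a ha
    have h1 := hdeg a
    rw [← Finset.add_sum_erase _ _ (Finset.mem_univ o), ho a ha, one_mul] at h1
    have h2 : Cfsg.charDegree (o : G → ℂ) = 1 :=
      Blocks.charDegree_eq (n := 1) (by simp [o, Blocks.triv])
    rw [h2, Nat.cast_one] at h1
    refine Eq.trans ?_ h1
    congr 1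
    exact Finset.sum_filter_of_ne (p := fun χ => m a χ ≠ 0) fun χ _ hn h0 => hn (by rw [h0, zero_mul])
  have hpos : ∀ χ : Cfsg.IrrCharacter G, (1 : ℤ) ≤ Cfsg.charDegree (χ : G → ℂ) := fun χ => by
    exact_mod_cast Blocks.charDegree_pos χ.2
  have hdega : ∀ a, Good a → 1 + (m a (c a) * (Cfsg.charDegree (c a : G → ℂ) : ℤ) +
      m a (η a) * (Cfsg.charDegree (η a : G → ℂ) : ℤ)) = 0 := by
    intro a ha
    have h1 := hdeg' a ha.1
    rwa [hT a ha, Finset.sum_pair (hcη a ha)] at h1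
  have hsgn : ∀ a, Good a → m a (η a) = -m a (c a) := by
    intro a ha
    have h1 := hdega a ha
    have := hpos (c a)
    have := hpos (η a)
    rcases huc a ha with u1 | u1 <;> rcases huη a ha with u2 | u2 <;> rw [u1, u2] at h1 ⊢ <;> omega
  -- the common constituent is constant
  have hg1 : Good (1 : ZMod (2 ^ k)) := by
    have := good_natCast (k := k) (a := 1) one_pos (Nat.one_lt_two_pow (by omega))
    rwa [Nat.cast_one] at this
  have hconst : ∀ a, Good a → c a = c 1 := by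
    rcases Nat.lt_or_ge k 3 with hk3 | hk3
    · -- only two good indices
      intro a ha
      obtain rfl : k = 2 := by omega
      have ha' : a = 1 ∨ a = -1 := by
        obtain ⟨h0, h2⟩ := ha
        revert a
        decide
      by_contra hne
      obtain ⟨h1, h2, -, -⟩ := hdiff a 1 ha hg1 hne
      rcases ha' with e1 | e1
      exacts [h1 e1, h2 e1]
    · have h4 : 4 ≤ 2 ^ (k - 1) := by
        calc 4 = 2 ^ 2 := by norm_num
          _ ≤ 2 ^ (k - 1) := Nat.pow_le_pow_right (by norm_num) (by omega)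
      have h8 : 8 ≤ 2 ^ k := by
        calc 8 = 2 ^ 3 := by norm_num
          _ ≤ 2 ^ k := Nat.pow_le_pow_right (by norm_num) hk3
      have hg2 : Good ((2 : ℕ) : ZMod (2 ^ k)) := good_natCast (by norm_num) (by omega)
      have hg3 : Good ((3 : ℕ) : ZMod (2 ^ k)) := good_natCast (by norm_num) (by omega)
      have h12 : ¬ ((1 : ZMod (2 ^ k)) = (2 : ℕ) ∨ (1 : ZMod (2 ^ k)) = -((2 : ℕ) : ZMod (2 ^ k))) := by
        rw [← Nat.cast_one]
        rintro (h' | h')
        · have := natCast_eq_imp (by omega) (by omega) h'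
          omega
        · exact natCast_ne_neg one_pos (by omega) h'
      have h13 : ¬ ((1 : ZMod (2 ^ k)) = (3 : ℕ) ∨ (1 : ZMod (2 ^ k)) = -((3 : ℕ) : ZMod (2 ^ k))) := by
        rw [← Nat.cast_one]
        rintro (h' | h')
        · have := natCast_eq_imp (by omega) (by omega) h'
          omega
        · exact natCast_ne_neg one_pos (by omega) h'
      have h23 : ¬ (((2 : ℕ) : ZMod (2 ^ k)) = (3 : ℕ) ∨
          ((2 : ℕ) : ZMod (2 ^ k)) = -((3 : ℕ) : ZMod (2 ^ k))) := by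
        rintro (h' | h')
        · have := natCast_eq_imp (by omega) (by omega) h'
          omega
        · exact natCast_ne_neg two_pos (by omega) h'
      intro a ha
      by_contra hne
      -- one of two equal ones gives a contradiction
      have key : ∀ x y, Good x → Good y → c x = c y → ¬ (x = y ∨ x = -y) →
          ∀ z, Good z → c z ≠ c x → False := fun x y hx hy hxy hn z hz hzx => by
        obtain ⟨-, -, e1, -⟩ := hdiff z x hz hx hzx
        obtain ⟨-, -, e2, -⟩ := hdiff z y hz hy (by rwa [← hxy])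
        exact hn (hsame x y hx hy hxy (e1.symm.trans e2))
      have d12 : c 1 ≠ c (2 : ℕ) := fun e1 => key 1 _ hg1 hg2 e1 h12 a ha hne
      have d13 : c 1 ≠ c (3 : ℕ) := fun e1 => key 1 _ hg1 hg3 e1 h13 a ha hne
      have d23 : c (2 : ℕ) ≠ c (3 : ℕ) := fun e1 => key _ _ hg2 hg3 e1 h23 1 hg1 d12
      have hsub : ({c 1, c (2 : ℕ), c (3 : ℕ)} : Finset (Cfsg.IrrCharacter G)) ⊆ T (dh k) := by
        intro χ hχ
        simp only [Finset.mem_insert, Finset.mem_singleton] at hχ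
        have : ∀ x, Good x → c x ∈ T (dh k) := fun x hx => by
          refine Finset.mem_filter.2 ⟨Finset.mem_erase.2 ⟨hco x hx, Finset.mem_univ _⟩, ?_⟩
          rw [← hmc x hx]
          rcases huc x hx with u1 | u1 <;> omega
        rcases hχ with rfl | rfl | rfl
        exacts [this _ hg1, this _ hg2, this _ hg3]
      have h3 : ({c 1, c (2 : ℕ), c (3 : ℕ)} : Finset (Cfsg.IrrCharacter G)).card = 3 := by
        rw [Finset.card_insert_of_notMem
          (fun hmem => (Finset.mem_insert.1 hmem).elim d12 fun hmem => d13 (Finset.mem_singleton.1 hmem)),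
          Finset.card_pair d23]
      have hTe := Finset.eq_of_subset_of_card_le hsub (by rw [heps, h3])
      have h0 := hdeg' _ hdh
      rw [← hTe, Finset.sum_insert
        (fun hmem => (Finset.mem_insert.1 hmem).elim d12 fun hmem => d13 (Finset.mem_singleton.1 hmem)),
        Finset.sum_pair d23, ← hmc 1 hg1,
        ← hmc _ hg2, ← hmc _ hg3] at h0
      obtain ⟨-, -, e12, s12⟩ := hdiff _ _ hg1 hg2 d12
      obtain ⟨-, -, e13, s13⟩ := hdiff _ _ hg1 hg3 d13
      have a1 := hdega _ hg1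
      have a2 := hdega _ hg2
      have a3 := hdega _ hg3
      rw [← s12, ← e12] at a2
      rw [← s13, ← e13] at a3
      omega
  -- labels
  set χ₁ := c 1 with hχ₁
  have h1T : χ₁ ∈ T (dh k) := by
    refine Finset.mem_filter.2 ⟨Finset.mem_erase.2 ⟨hco _ hg1, Finset.mem_univ _⟩, ?_⟩
    rw [hχ₁, ← hmc 1 hg1]
    rcases huc 1 hg1 with u1 | u1 <;> omega
  obtain ⟨χ₂, χ₃, h23', hrest⟩ :=
    Finset.card_eq_two.1 (show ((T (dh k)).erase χ₁).card = 2 by
      rw [Finset.card_erase_of_mem h1T, heps])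
  have h2T : χ₂ ∈ (T (dh k)).erase χ₁ := by rw [hrest]; simp
  have h3T : χ₃ ∈ (T (dh k)).erase χ₁ := by rw [hrest]; simp
  obtain ⟨h21, h2T⟩ := Finset.mem_erase.1 h2T
  obtain ⟨h31, h3T⟩ := Finset.mem_erase.1 h3T
  have hnot : ∀ χ ∈ T (dh k), χ ≠ o := fun χ hχ =>
    (Finset.mem_erase.1 (Finset.mem_filter.1 hχ).1).1
  have hηnot : ∀ a, Good a → η a ∉ T (dh k) := fun a ha hn =>
    (Finset.mem_filter.1 hn).2 (hmη a ha)
  have hfinal : ∀ a, Good a → ∀ χ, χ ≠ o →
      m a χ = if χ = χ₁ then m (dh k) χ₁ else if χ = η a then -m (dh k) χ₁ else 0 := by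
    intro a ha χ hne
    split_ifs with e1 e2
    · rw [e1, ← hconst a ha, hmc a ha]
    · rw [e2, hsgn a ha, hmc a ha, hconst a ha]
    · by_contra hz
      rcases hmem a ha χ hne hz with h' | h'
      exacts [e1 (h'.trans (hconst a ha)), e2 h']
  refine ⟨χ₁, χ₂, χ₃, η, m (dh k) χ₁, m (dh k) χ₂, m (dh k) χ₃,
    ⟨hunit _ hdh _ h1T, hunit _ hdh _ h2T, hunit _ hdh _ h3T, hnot _ h1T, hnot _ h2T, hnot _ h3T,
      h21.symm, h31.symm, h23',
      fun a ha => ⟨fun e' => hηnot a ha (e' ▸ h1T), fun e' => hηnot a ha (e' ▸ h2T),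
        fun e' => hηnot a ha (e' ▸ h3T), hηo a ha⟩,
      fun a b ha hb => hsame a b ha hb ((hconst a ha).trans (hconst b hb).symm), ?_, ?_, ?_⟩⟩
  · intro a ha
    have hna : Good (-a) := ⟨neg_ne_zero.2 ha.1, fun e' => ha.2 (by
      rw [← neg_neg a, e', neg_dh hk1])⟩
    have h1 := hpair (-a) a hna ha
    rw [if_pos rfl, if_neg (ha.ne_neg hk1).symm] at h1
    have hne : m a (η (-a)) ≠ 0 := fun hz => by
      rw [hz, mul_zero, add_zero, hmc (-a) hna, hconst (-a) hna, ← hconst a ha, hmc a ha] at h1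
      rcases huc a ha with u1 | u1 <;> rw [hmc a ha] at u1 <;> rw [u1] at h1 <;> omega
    rcases hmem a ha _ (hηo _ hna) hne with h' | h'
    exacts [absurd h' (hηc _ _ hna ha), h']
  · intro χ hne
    rw [hm]
    split_ifs with e1 e2 e3
    · rw [e1]
    · rw [e2]
    · rw [e3]
    · rw [hzero _ χ hne, Int.cast_zero]
      intro hχ
      have h4 : χ ∈ (T (dh k)).erase χ₁ := Finset.mem_erase.2 ⟨e1, hχ⟩
      rw [hrest] at h4
      simp [e2, e3] at h4
  · intro a ha χ hne
    rw [hm, hfinal a ha χ hne]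
    split_ifs <;> simp

open scoped _root_.Classical in
/-- Sums against the multiplicities of a member with two nontrivial constituents. -/
theorem Labels.sum_good (h : Proj ι π) (D : DData P k ι) (he : e.IsPrimitive)
    {χ₁ χ₂ χ₃ : Cfsg.IrrCharacter G} {η : ZMod (2 ^ k) → Cfsg.IrrCharacter G} {δ₁ δ₂ δ₃ : ℤ}
    (L : Labels π e χ₁ χ₂ χ₃ η δ₁ δ₂ δ₃) {a : ZMod (2 ^ k)} (ha : Good a)
    (f : Cfsg.IrrCharacter G → ℂ) :
    ∑ χ : Cfsg.IrrCharacter G, Cfsg.classInner (fam π e a) (χ : G → ℂ) * f χ =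
      f (Blocks.triv G) + δ₁ * f χ₁ - δ₁ * f (η a) := by
  obtain ⟨h1, -, -, h4⟩ := L.eta_ne a ha
  rw [← Finset.sum_subset (Finset.subset_univ {Blocks.triv G, χ₁, η a}),
    Finset.sum_insert (by simp [L.ne_one₁.symm, h4.symm]), Finset.sum_pair h1.symm,
    L.mult_good a ha _ L.ne_one₁, L.mult_good a ha _ h4, if_pos rfl, if_neg h1, if_pos rfl,
    show Cfsg.classInner (fam π e a) (Blocks.triv G : G → ℂ) = 1 from
      h.classInner_fam_one D he ha.1]
  · ring
  · intro χ _ hχ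
    simp only [Finset.mem_insert, Finset.mem_singleton, not_or] at hχ
    rw [L.mult_good a ha _ hχ.1, if_neg hχ.2.1, if_neg hχ.2.2, zero_mul]

open scoped _root_.Classical in
/-- Sums against the multiplicities of the member with three nontrivial constituents. -/
theorem Labels.sum_eps (h : Proj ι π) (D : DData P k ι) (he : e.IsPrimitive)
    {χ₁ χ₂ χ₃ : Cfsg.IrrCharacter G} {η : ZMod (2 ^ k) → Cfsg.IrrCharacter G} {δ₁ δ₂ δ₃ : ℤ}
    (L : Labels π e χ₁ χ₂ χ₃ η δ₁ δ₂ δ₃) (f : Cfsg.IrrCharacter G → ℂ) :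
    ∑ χ : Cfsg.IrrCharacter G, Cfsg.classInner (fam π e (dh k)) (χ : G → ℂ) * f χ =
      f (Blocks.triv G) + δ₁ * f χ₁ + δ₂ * f χ₂ + δ₃ * f χ₃ := by
  rw [← Finset.sum_subset (Finset.subset_univ {Blocks.triv G, χ₁, χ₂, χ₃}),
    Finset.sum_insert (by simp [L.ne_one₁.symm, L.ne_one₂.symm, L.ne_one₃.symm]),
    Finset.sum_insert (by simp [L.ne₁₂, L.ne₁₃]), Finset.sum_pair L.ne₂₃,
    L.mult_eps _ L.ne_one₁, L.mult_eps _ L.ne_one₂, L.mult_eps _ L.ne_one₃,
    show Cfsg.classInner (fam π e (dh k)) (Blocks.triv G : G → ℂ) = 1 from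
      h.classInner_fam_one D he (dh_ne D.pos)]
  · simp only [if_true, L.ne₁₂.symm, L.ne₁₃.symm, L.ne₂₃.symm, if_false]
    ring
  · intro χ _ hχ
    simp only [Finset.mem_insert, Finset.mem_singleton, not_or] at hχ
    rw [L.mult_eps _ hχ.1, if_neg hχ.2.1, if_neg hχ.2.2.1, if_neg hχ.2.2.2, zero_mul]

end Cfsg.Agent.BlockThms.Dihedral
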