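import Cfsg.Agent.BlockThms.Dihedral.Principal

/-!
# Counting the products of two conjugates of the central involution
-/

set_option autoImplicit false

namespace Cfsg.Agent.BlockThms.Dihedral

open DihedralGroup Cfsg.Agent.Invol Cfsg.Agent
open scoped ComplexConjugate

universe u

open scoped _root_.Classical in
/-- Summing over conjugators is summing over the class. -/
theorem sum_conj_eq {H : Type u} [Group H] [Fintype H] {A : Type*} [AddCommMonoid A] (x : H)
    (g : H → A) :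
    ∑ b : H, g (b * x * b⁻¹) =
      Nat.card (Subgroup.centralizer ({x} : Set H)) •
        ∑ s ∈ Finset.univ.filter (fun s => IsConj x s), g s := by
  rw [← Finset.sum_fiberwise_of_maps_to (g := fun b : H => b * x * b⁻¹)
    (t := Finset.univ.filter fun s => IsConj x s)
    (fun b _ => Finset.mem_filter.2 ⟨Finset.mem_univ _, isConj_iff.2 ⟨b, rfl⟩⟩), Finset.smul_sum]
  refine Finset.sum_congr rfl fun s hs => ?_
  obtain ⟨b₀, hb₀⟩ := isConj_iff.1 (Finset.mem_filter.1 hs).2
  rw [Finset.sum_congr rfl fun b hb => by rw [(Finset.mem_filter.1 hb).2], Finset.sum_const]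
  congr 1
  rw [Nat.card_eq_fintype_card, ← Finset.card_univ]
  symm
  refine Finset.card_bij (fun c _ => b₀ * (c : H)) (fun c _ => ?_)
    (fun _ _ _ _ hc => Subtype.ext (mul_left_cancel hc)) fun b hb => ?_
  · refine Finset.mem_filter.2 ⟨Finset.mem_univ _, ?_⟩
    have hc := Subgroup.mem_centralizer_singleton_iff.1 c.2
    calc b₀ * (c : H) * x * (b₀ * (c : H))⁻¹
        = b₀ * ((c : H) * x) * (c : H)⁻¹ * b₀⁻¹ := by group
      _ = b₀ * (x * (c : H)) * (c : H)⁻¹ * b₀⁻¹ := by rw [hc]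
      _ = s := by rw [← hb₀]; group
  · have hb' := (Finset.mem_filter.1 hb).2
    refine ⟨⟨b₀⁻¹ * b, Subgroup.mem_centralizer_singleton_iff.2 ?_⟩, Finset.mem_univ _,
      mul_inv_cancel_left b₀ b⟩
    calc b₀⁻¹ * b * x = b₀⁻¹ * (b * x * b⁻¹) * b := by group
      _ = b₀⁻¹ * (b₀ * x * b₀⁻¹) * b := by rw [hb', hb₀]
      _ = x * (b₀⁻¹ * b) := by group

variable {G : Type u} [Group G] [Fintype G] {P : Sylow 2 G} {k : ℕ}
  {ι : DihedralGroup (2 ^ k) →* G} {π : cJ ι →* DihedralGroup (2 ^ k)}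

open scoped _root_.Classical in
/-- The involutions of `cJ` lying above reflections. -/
noncomputable def refl (π : cJ ι →* DihedralGroup (2 ^ k)) : Finset (cJ ι) :=
  Finset.univ.filter fun s => s * s = 1 ∧ ∃ a, π s = sr a

theorem mem_refl {s : cJ ι} : s ∈ refl π ↔ s * s = 1 ∧ ∃ a, π s = sr a := by
  classical
  simp [refl]

namespace Proj

variable (h : Proj ι π) (D : DData P k ι)
include h D

/-- A reflection involution is conjugate to one of the two standard ones. -/
theorem refl_cases {s : cJ ι} (hs : s ∈ refl π) :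
    IsConj (iotaC D (sr 0)) s ∨ IsConj (iotaC D (sr (-1))) s := by
  obtain ⟨hs2, a, ha⟩ := mem_refl.1 hs
  have ho : orderOf s = 2 ^ 1 := by
    rw [pow_one]
    refine orderOf_eq_prime (by rw [pow_two, hs2]) fun h1 => ?_
    rw [h1, map_one, one_def] at ha
    cases ha
  obtain ⟨g, -, hg⟩ := h.exists_conj_section D (x := s)
    (IsPGroup.of_card (n := 1) (by rw [Nat.card_zpowers, ho]))
  have hg' : IsConj s (iotaC D (sr a)) := isConj_iff.2 ⟨g, by rw [hg, ha]⟩
  have hc : ∀ c, IsConj (iotaC D (sr a)) (iotaC D (sr (a - 2 * c))) := fun c =>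
    isConj_iff.2 ⟨iotaC D (r c), by rw [← map_inv, ← map_mul, ← map_mul, r_conj_sr D.pos]⟩
  obtain ⟨c, hc' | hc'⟩ := dparity a
  · left
    have h1 := hc c
    rw [show a - 2 * c = 0 by rw [hc', sub_self]] at h1
    exact (hg'.trans h1).symm
  · right
    have h1 := hc (c + 1)
    rw [show a - 2 * (c + 1) = -1 by rw [hc']; ring] at h1
    exact (hg'.trans h1).symm

open scoped _root_.Classical in
theorem refl_eq : refl π = Finset.univ.filter (fun s => IsConj (iotaC D (sr 0)) s) ∪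
    Finset.univ.filter (fun s => IsConj (iotaC D (sr (-1))) s) := by
  ext s
  simp only [Finset.mem_union, Finset.mem_filter, Finset.mem_univ, true_and]
  refine ⟨h.refl_cases D, fun hs => mem_refl.2 ?_⟩
  obtain ⟨a, g, rfl⟩ : ∃ a, ∃ g, g * iotaC D (sr a) * g⁻¹ = s := by
    rcases hs with hs | hs <;> obtain ⟨g, hg⟩ := isConj_iff.1 hs
    exacts [⟨_, g, hg⟩, ⟨_, g, hg⟩]
  refine ⟨?_, ?_⟩
  · calc g * iotaC D (sr a) * g⁻¹ * (g * iotaC D (sr a) * g⁻¹)
        = g * (iotaC D (sr a) * iotaC D (sr a)) * g⁻¹ := by group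
      _ = 1 := by rw [← map_mul, sr_mul_self, map_one, mul_one, mul_inv_cancel]
  · rw [map_mul, map_mul, map_inv, h.proj_iotaC D]
    rcases π g with c | c
    · exact ⟨_, r_conj_sr D.pos c a⟩
    · exact ⟨c - a + c, by rw [sr_mul_sr, inv_sr, r_mul_sr]; congr 1; ring⟩

open scoped _root_.Classical in
theorem refl_disjoint : Disjoint (Finset.univ.filter (fun s => IsConj (iotaC D (sr 0)) s))
    (Finset.univ.filter (fun s => IsConj (iotaC D (sr (-1))) s)) := by
  refine Finset.disjoint_left.2 fun s h0 h1 => ?_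
  have h01 : IsConj (π (iotaC D (sr 0))) (π (iotaC D (sr (-1)))) :=
    MonoidHom.map_isConj π ((Finset.mem_filter.1 h0).2.trans (Finset.mem_filter.1 h1).2.symm)
  rw [h.proj_iotaC D, h.proj_iotaC D] at h01
  obtain ⟨d, hd⟩ := isConj_iff.1 h01
  rcases d with c | c
  · rw [r_conj_sr D.pos, sr.injEq] at hd
    exact even_ne_odd' D.pos 0 (-c) (by linear_combination -hd)
  · rw [inv_sr, sr_mul_sr, r_mul_sr, sr.injEq] at hd
    exact even_ne_odd' D.pos 0 c (by linear_combination -hd)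

/-- The number of reflection involutions of `cJ`. -/
theorem card_refl : ∃ A B : ℕ, (refl π).card = A + B ∧
    A * Nat.card (Subgroup.centralizer ({ι (r (dh k)), ι (sr 0)} : Set G)) = Nat.card (cJ ι) ∧
    B * Nat.card (Subgroup.centralizer ({ι (r (dh k)), ι (sr (-1))} : Set G)) = Nat.card (cJ ι) := by
  classical
  have key : ∀ x : cJ ι, (Finset.univ.filter (fun s => IsConj x s)).card *
      Nat.card (Subgroup.centralizer ({ι (r (dh k)), (x : G)} : Set G)) = Nat.card (cJ ι) := by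
    intro x
    have h1 := sum_conj_eq x (fun _ => (1 : ℕ))
    simp only [Finset.sum_const, Finset.card_univ, smul_eq_mul, mul_one,
      ← Nat.card_eq_fintype_card] at h1
    have h2 : Nat.card (Subgroup.centralizer ({x} : Set (cJ ι))) =
        Nat.card (Subgroup.centralizer ({ι (r (dh k)), (x : G)} : Set G)) := by
      refine Nat.card_congr
        { toFun := fun c => ⟨((c : cJ ι) : G), Subgroup.mem_centralizer_iff.2 ?_⟩
          invFun := fun c => ⟨⟨(c : G), Subgroup.mem_centralizer_iff.2 fun y hy =>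
              Subgroup.mem_centralizer_iff.1 c.2 y (Or.inl hy)⟩,
            Subgroup.mem_centralizer_singleton_iff.2 (Subtype.ext
              (Subgroup.mem_centralizer_iff.1 c.2 (x : G) (Or.inr rfl)).symm)⟩
          left_inv := fun _ => rfl
          right_inv := fun _ => rfl }
      rintro y (rfl | rfl)
      · exact (Subgroup.mem_centralizer_singleton_iff.1 c.1.2).symm
      · exact (congrArg Subtype.val (Subgroup.mem_centralizer_singleton_iff.1 c.2)).symm
    rw [h2] at h1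
    rw [h1, mul_comm]
    congr!
  refine ⟨_, _, ?_, key (iotaC D (sr 0)), key (iotaC D (sr (-1)))⟩
  rw [h.refl_eq D, Finset.card_union_of_disjoint (h.refl_disjoint D)]

variable {e : AddChar (ZMod (2 ^ k)) ℂ} (he : e.IsPrimitive)
include he

/-- The character sums over the reflection involutions vanish. -/
theorem sum_refl (hk : 2 ≤ k) {j : ZMod (2 ^ k)} (hj : j = 1 ∨ j = -1) :
    ∑ s ∈ refl π, e (j * rotIdx (π s)) = 0 := by
  classical
  set S := ∑ s ∈ refl π, e (j * rotIdx (π s)) with hS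
  have hinv : S = e (j * -2) * S := by
    conv_rhs => rw [hS, Finset.mul_sum]
    refine Finset.sum_bij' (fun s _ => (iotaC D (r 1))⁻¹ * s * iotaC D (r 1))
      (fun s _ => iotaC D (r 1) * s * (iotaC D (r 1))⁻¹) ?_ ?_ ?_ ?_ ?_
    · intro s hs
      obtain ⟨hs2, a, ha⟩ := mem_refl.1 hs
      refine mem_refl.2 ⟨?_, ?_⟩
      · calc (iotaC D (r 1))⁻¹ * s * iotaC D (r 1) * ((iotaC D (r 1))⁻¹ * s * iotaC D (r 1))
            = (iotaC D (r 1))⁻¹ * (s * s) * iotaC D (r 1) := by group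
          _ = 1 := by rw [hs2, mul_one, inv_mul_cancel]
      · exact ⟨_, by rw [map_mul, map_mul, map_inv, h.proj_iotaC D, ha, inv_r, r_mul_sr, sr_mul_r]⟩
    · intro s hs
      obtain ⟨hs2, a, ha⟩ := mem_refl.1 hs
      refine mem_refl.2 ⟨?_, ?_⟩
      · calc iotaC D (r 1) * s * (iotaC D (r 1))⁻¹ * (iotaC D (r 1) * s * (iotaC D (r 1))⁻¹)
            = iotaC D (r 1) * (s * s) * (iotaC D (r 1))⁻¹ := by group
          _ = 1 := by rw [hs2, mul_one, mul_inv_cancel]
      · exact ⟨_, by rw [map_mul, map_mul, map_inv, h.proj_iotaC D, ha, r_conj_sr D.pos]⟩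
    · intro s _; group
    · intro s _; group
    · intro s hs
      obtain ⟨-, a, ha⟩ := mem_refl.1 hs
      have : π ((iotaC D (r 1))⁻¹ * s * iotaC D (r 1)) = sr (a + 2) := by
        rw [map_mul, map_mul, map_inv, h.proj_iotaC D, ha, inv_r, r_mul_sr, sr_mul_r]
        congr 1; ring
      show e (j * rotIdx (π s)) = e (j * -2) * e (j * rotIdx (π _))
      rw [this, ha, ← AddChar.map_add_eq_mul, ← mul_add]
      show e (j * a) = e (j * (-2 + (a + 2)))
      congr 2; ring
  have hne : e (j * -2) ≠ 1 := by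
    rw [ne_eq, AddChar.IsPrimitive.zmod_char_eq_one_iff _ he]
    have h2 : (2 : ZMod (2 ^ k)) ≠ 0 := by
      intro h2
      have := natCast_eq_imp (k := k) (a := 2) (b := 0)
        (lt_of_lt_of_le (by norm_num) (Nat.pow_le_pow_right two_pos hk)) (pow_pos two_pos k)
        (by push_cast; exact h2)
      omega
    rcases hj with rfl | rfl <;> simpa using h2
  by_contra h0
  exact hne (mul_right_cancel₀ h0 (by rw [← hinv, one_mul]))

omit he in
/-- Only pairs of reflection involutions have their product above a nontrivial rotation. -/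
theorem pair_refl {s t : G} (hs : s * s = 1) (ht : t * t = 1) (hs1 : s ≠ 1) (ht1 : t ≠ 1) (hst : s * t ∈ kSub π)
    (hne : ridx π ⟨s * t, hst⟩ ≠ 0) :
    ∃ (hs' : s ∈ cJ ι) (ht' : t ∈ cJ ι), (⟨s, hs'⟩ : cJ ι) ∈ refl π ∧
      (⟨t, ht'⟩ : cJ ι) ∈ refl π := by
  set i := ridx π ⟨s * t, hst⟩ with hi
  set x : cJ ι := ⟨s * t, kSub_le hst⟩ with hx
  have hπx : π x = r i := proj_kSub (⟨s * t, hst⟩ : kSub π)
  have hinvS : s⁻¹ = s := inv_eq_of_mul_eq_one_right hs
  have hinvT : t⁻¹ = t := inv_eq_of_mul_eq_one_right ht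
  have hsC : s ∈ cJ ι := h.mem_cJ_of_conj D (x := x) (y := x⁻¹) hπx hne
    (by rw [map_inv, hπx, inv_r]) (by
      rw [Subgroup.coe_inv, hx]
      show s * (s * t) * s⁻¹ = (s * t)⁻¹
      rw [mul_inv_rev, hinvS, hinvT, ← mul_assoc s s, hs, one_mul])
  have htC : t ∈ cJ ι := by
    have h1 := mul_mem (inv_mem hsC) x.2
    rwa [show s⁻¹ * (x : G) = t from inv_mul_cancel_left s t] at h1
  set sc : cJ ι := ⟨s, hsC⟩ with hsc
  set tc : cJ ι := ⟨t, htC⟩ with htc
  have hsc2 : sc * sc = 1 := Subtype.ext hs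
  have htc2 : tc * tc = 1 := Subtype.ext ht
  have hxe : x = sc * tc := rfl
  rw [hxe, map_mul] at hπx
  have key : ∀ (u : cJ ι) (a : ZMod (2 ^ k)), u * u = 1 → u ≠ 1 → π u = r a → a = dh k := by
    intro u a hu2 hu1 hu
    have h1 : π u * π u = 1 := by rw [← map_mul, hu2, map_one]
    rw [hu, r_mul_r, one_def, r.injEq, ← two_mul] at h1
    rcases two_mul_zero D.pos h1 with ha | ha
    · exact absurd (h.eq_one_of_sq (by rw [hu, ha, ← one_def]) hu2) hu1
    · exact ha
  have hsc1 : sc ≠ 1 := fun e' => hs1 (congrArg Subtype.val e')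
  have htc1 : tc ≠ 1 := fun e' => ht1 (congrArg Subtype.val e')
  rcases hs' : π sc with a | a <;> rcases ht' : π tc with b | b <;> rw [hs', ht'] at hπx
  · rw [r_mul_r, r.injEq, key sc a hsc2 hsc1 hs', key tc b htc2 htc1 ht', ← two_mul,
      two_dh D.pos] at hπx
    exact absurd hπx.symm hne
  · rw [r_mul_sr] at hπx
    exact (DihedralGroup.noConfusion rfl (heq_of_eq hπx))
  · rw [sr_mul_r] at hπx
    exact (DihedralGroup.noConfusion rfl (heq_of_eq hπx))
  · exact ⟨hsC, htC, mem_refl.2 ⟨hsc2, a, hs'⟩, mem_refl.2 ⟨htc2, b, ht'⟩⟩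

end Proj

variable {e : AddChar (ZMod (2 ^ k)) ℂ}

open scoped _root_.Classical in
/-- The class multiplication sum of the member at `1`. -/
theorem Proj.sum_fam_conj (h : Proj ι π) (D : DData P k ι) (he : e.IsPrimitive) (hk : 2 ≤ k)
    (hconj : ∀ a, IsConj (ι (r (dh k))) (ι (sr a))) :
    ∑ a : G, fam π e 1 (a * ι (r (dh k)) * a⁻¹ * ι (r (dh k))) =
      2 * (Nat.card (cJ ι) : ℂ) * ((refl π).card : ℂ) ^ 2 := by
  set z := ι (r (dh k)) with hz
  set f0 : G → ℂ := Cfsg.extendByZero (kSub π) (fun x => 1 - (muHom π e 1 x : ℂ)) with hf0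
  set cls := Finset.univ.filter fun s => IsConj z s with hcls
  have hz2 : z * z = 1 := by rw [hz, ← map_mul, r_mul_r, ← two_mul, two_dh D.pos, ← one_def, map_one]
  have hz1 : z ≠ 1 := fun e' => by
    have := D.z_order
    rw [← hz, e', orderOf_one] at this
    omega
  -- to pairs in the class
  have step1 : ∑ a : G, fam π e 1 (a * z * a⁻¹ * z) = (Nat.card (kSub π) : ℂ)⁻¹ *
      ∑ b : G, ∑ y : G, f0 (b * z * b⁻¹ * (y * z * y⁻¹)) := by
    simp only [fam, secInd, Char.indFun_apply, ← Finset.mul_sum]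
    congr 1
    rw [Finset.sum_comm]
    conv_rhs => rw [Finset.sum_comm]
    refine Fintype.sum_equiv (Equiv.inv G) _ _ fun x => ?_
    refine Fintype.sum_equiv (Equiv.mulLeft x⁻¹) _ _ fun a => ?_
    simp only [Equiv.inv_apply, Equiv.coe_mulLeft, hf0]
    congr 1
    group
  have hpair : ∀ (φ : G → ℂ), ∑ b : G, φ (b * z * b⁻¹) =
      (Nat.card (cJ ι) : ℂ) * ∑ s ∈ cls, φ s := fun φ => by
    rw [sum_conj_eq, nsmul_eq_mul]
  have step2 : ∑ b : G, ∑ y : G, f0 (b * z * b⁻¹ * (y * z * y⁻¹)) =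
      (Nat.card (cJ ι) : ℂ) ^ 2 * ∑ s ∈ cls, ∑ t ∈ cls, f0 (s * t) := by
    rw [hpair fun s => ∑ y : G, f0 (s * (y * z * y⁻¹)),
      Finset.sum_congr rfl fun s _ => hpair fun t => f0 (s * t), ← Finset.mul_sum]
    ring
  -- reflections
  have hclsinv : ∀ s ∈ cls, s * s = 1 ∧ s ≠ 1 := by
    intro s hs
    obtain ⟨g, rfl⟩ := isConj_iff.1 (Finset.mem_filter.1 hs).2
    refine ⟨?_, fun e' => hz1 (conj_eq_one_iff.1 e')⟩
    calc g * z * g⁻¹ * (g * z * g⁻¹) = g * (z * z) * g⁻¹ := by group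
      _ = 1 := by rw [hz2, mul_one, mul_inv_cancel]
  set R := (refl π).image fun s : cJ ι => (s : G) with hR
  have hRcls : R ⊆ cls := by
    intro s hs
    obtain ⟨u, hu, rfl⟩ := Finset.mem_image.1 hs
    refine Finset.mem_filter.2 ⟨Finset.mem_univ _, ?_⟩
    rcases h.refl_cases D hu with h' | h'
    · exact (hconj 0).trans (MonoidHom.map_isConj (cJ ι).subtype h')
    · exact (hconj (-1)).trans (MonoidHom.map_isConj (cJ ι).subtype h')
  have hvan : ∀ s ∈ cls, ∀ t ∈ cls, ¬ (s ∈ R ∧ t ∈ R) → f0 (s * t) = 0 := by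
    intro s hs t ht hn
    by_cases hK : s * t ∈ kSub π
    · rw [hf0, Char.extendByZero_of_mem _ _ hK, muHom_apply]
      by_cases h0 : ridx π ⟨_, hK⟩ = 0
      · rw [h0, mul_zero, AddChar.map_zero_eq_one, sub_self]
      · obtain ⟨hs', ht', hsr, htr⟩ := h.pair_refl D (hclsinv s hs).1 (hclsinv t ht).1
          (hclsinv s hs).2 (hclsinv t ht).2 hK h0
        exact absurd ⟨Finset.mem_image.2 ⟨_, hsr, rfl⟩, Finset.mem_image.2 ⟨_, htr, rfl⟩⟩ hn
    · exact Char.extendByZero_of_not_mem _ _ hK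
  have step3 : ∑ s ∈ cls, ∑ t ∈ cls, f0 (s * t) =
      ∑ s ∈ refl π, ∑ t ∈ refl π, f0 ((s : G) * (t : G)) := by
    rw [← Finset.sum_subset hRcls fun s hs hn =>
      Finset.sum_eq_zero fun t ht => hvan s hs t ht fun h' => hn h'.1]
    rw [Finset.sum_congr rfl fun s hs => (Finset.sum_subset hRcls fun t ht hn =>
      hvan s (hRcls hs) t ht fun h' => hn h'.2).symm]
    rw [hR, Finset.sum_image fun a _ b _ h' => Subtype.ext h']
    exact Finset.sum_congr rfl fun s _ => Finset.sum_image fun a _ b _ h' => Subtype.ext h'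
  have step4 : ∑ s ∈ refl π, ∑ t ∈ refl π, f0 ((s : G) * (t : G)) =
      ((refl π).card : ℂ) ^ 2 := by
    have hval : ∀ s ∈ refl π, ∀ t ∈ refl π, f0 ((s : G) * (t : G)) =
        1 - e (-1 * rotIdx (π s)) * e (1 * rotIdx (π t)) := by
      intro s hs t ht
      obtain ⟨-, a, ha⟩ := mem_refl.1 hs
      obtain ⟨-, b, hb⟩ := mem_refl.1 ht
      have hπ : π (s * t) = r (b - a) := by rw [map_mul, ha, hb, sr_mul_sr]
      have hK : (s : G) * (t : G) ∈ kSub π := mem_kSub_iff.2 ⟨(s * t).2, _, hπ⟩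
      have hidx : ridx π ⟨_, hK⟩ = b - a := by
        show rotIdx (π (s * t)) = _
        rw [hπ]; rfl
      rw [hf0, Char.extendByZero_of_mem _ _ hK, muHom_apply, hidx, ha, hb,
        ← AddChar.map_add_eq_mul]
      show 1 - e (1 * (b - a)) = 1 - e (-1 * a + 1 * b)
      congr 2; ring
    rw [Finset.sum_congr rfl fun s hs => Finset.sum_congr rfl fun t ht => hval s hs t ht]
    simp only [Finset.sum_sub_distrib, Finset.sum_const, ← Finset.mul_sum, nsmul_eq_mul, mul_one,
      h.sum_refl D he hk (Or.inl rfl), mul_zero, sub_zero]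
    ring
  rw [step1, step2, step3, step4, two_card_kSub h D]
  have h0 : (Nat.card (kSub π) : ℂ) ≠ 0 := Nat.cast_ne_zero.2 Nat.card_pos.ne'
  push_cast
  field_simp

variable {M : Ideal Cfsg.AlgInt}

/-- The order formula. -/
theorem Proj.order_formula (h : Proj ι π) (D : DData P k ι) (he : e.IsPrimitive) (hk : 2 ≤ k)
    (hM : Cfsg.IsPModular 2 M) (hconj : ∀ a, IsConj (ι (r (dh k))) (ι (sr a)))
    {χ : Cfsg.IrrCharacter G} (hχ : χ ∈ Cfsg.principalBlock M G)
    (hχ1 : (χ : G → ℂ) ≠ fun _ => 1) (δ : ℤ) (hδ : δ = 1 ∨ δ = -1)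
    (hval : ∀ l : ℕ, 0 < l → l < 2 ^ k → (χ : G → ℂ) (ι (r (l : ZMod (2 ^ k)))) = δ) :
    0 < (Cfsg.charDegree (χ : G → ℂ) : ℤ) + δ ∧
    (Nat.card G : ℂ) * ((Cfsg.charDegree (χ : G → ℂ) : ℂ) - δ) ^ 2 =
      2 * (Cfsg.charDegree (χ : G → ℂ) : ℂ) * ((Cfsg.charDegree (χ : G → ℂ) : ℂ) + δ) *
        (Nat.card (cJ ι) : ℂ) * ((refl π).card : ℂ) ^ 2 := by
  classical
  obtain ⟨χ₁, χ₂, χ₃, η, δ₁, δ₂, δ₃, L⟩ := exists_labels h D hk he
  have hlt : 2 ^ (k - 1) < 2 ^ k := Nat.pow_lt_pow_right one_lt_two (by omega)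
  have h4 : 4 ≤ 2 ^ k := by
    calc 4 = 2 ^ 2 := by norm_num
      _ ≤ 2 ^ k := Nat.pow_le_pow_right two_pos hk
  have hvz := hval (2 ^ (k - 1)) (pow_pos two_pos _) hlt
  rw [natCast_dh] at hvz
  have hdh := dh_ne D.pos
  have hsq : ∀ a, e (a * dh k) = 1 ∨ e (a * dh k) = -1 := fun a => mul_self_eq_one_iff.1 (by
    rw [← AddChar.map_add_eq_mul, show a * dh k + a * dh k = a * (2 * dh k) by ring,
      two_dh D.pos, mul_zero, AddChar.map_zero_eq_one])
  have hetaz : ∀ a, Good a → (η a : G → ℂ) (ι (r (dh k))) ^ 2 = 4 := by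
    intro a ha
    rw [L.value_eta h D hM he ha hdh, AddChar.map_neg_eq_inv]
    rcases L.sign₁ with e1 | e1 <;> rcases hsq a with e2 | e2 <;> rw [e1, e2] <;> norm_num
  have hone : (1 : ℕ) < 2 ^ k := by omega
  -- identification
  have hne0 : χ ≠ Blocks.triv G := fun e' => hχ1 (by rw [e']; rfl)
  have hδ0 : (δ : ℂ) ≠ 0 := by rcases hδ with e' | e' <;> simp [e']
  have htwo : ∀ (ψ : Cfsg.IrrCharacter G) (d : ℤ), χ = ψ →
      (∀ s, s ≠ (0 : ZMod (2 ^ k)) → (ψ : G → ℂ) (ι (r s)) = -(d * e (dh k * s))) → False := by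
    intro ψ d he' hψ
    subst he'
    have hs1 : ((1 : ℕ) : ZMod (2 ^ k)) ≠ 0 := fun h' => by
      have := natCast_eq_imp hone (pow_pos two_pos k) (h'.trans Nat.cast_zero.symm)
      omega
    have hs2 : ((2 : ℕ) : ZMod (2 ^ k)) ≠ 0 := fun h' => by
      have := natCast_eq_imp (by omega) (pow_pos two_pos k) (h'.trans Nat.cast_zero.symm)
      omega
    have v1 := (hval 1 one_pos hone).symm.trans (hψ _ hs1)
    have v2 := (hval 2 two_pos (by omega)).symm.trans (hψ _ hs2)
    rw [Nat.cast_one, mul_one] at v1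
    rw [show dh k * ((2 : ℕ) : ZMod (2 ^ k)) = 0 by push_cast; linear_combination two_dh D.pos,
      AddChar.map_zero_eq_one, mul_one] at v2
    have hne : e (dh k) ≠ 1 := fun h' =>
      hdh ((AddChar.IsPrimitive.zmod_char_eq_one_iff _ he _).1 h')
    rcases mul_self_eq_one_iff.1 (show e (dh k) * e (dh k) = 1 by
      rw [← AddChar.map_add_eq_mul, ← two_mul, two_dh D.pos, AddChar.map_zero_eq_one]) with h' | h'
    · exact hne h'
    · rw [h'] at v1
      exact hδ0 (by linear_combination v1 / 2 + v2 / 2)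
  obtain rfl : χ = χ₁ := by
    rcases L.exhaust h D hM he hk hχ with h' | h' | h' | h' | ⟨a, ha, h'⟩
    · exact absurd h' hne0
    · exact h'
    · exact (htwo _ δ₂ h' fun s hs => (L.value₂₃ h D hM he hs).1).elim
    · exact (htwo _ δ₃ h' fun s hs => (L.value₂₃ h D hM he hs).2).elim
    · exfalso
      have h5 := hetaz a ha
      rw [← h', hvz] at h5
      rcases hδ with e' | e' <;> rw [e'] at h5 <;> norm_num at h5
  obtain rfl : δ = δ₁ := by
    have h' := L.value₁ h D hM he hdh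
    rw [hvz] at h'
    exact_mod_cast h'
  have hg1 : Good (1 : ZMod (2 ^ k)) := by
    have := good_natCast (k := k) (a := 1) one_pos (Nat.one_lt_two_pow (by omega))
    rwa [Nat.cast_one] at this
  -- degrees
  set x := Cfsg.charDegree (χ : G → ℂ) with hx
  set b := Cfsg.charDegree (η 1 : G → ℂ) with hb
  have hbx : (b : ℤ) = x + δ := by
    have h1 := (L.odd_relations h D he (g := (1 : G)) (by simp)).2 1 hg1
    rw [Char.charDegree_spec', Char.charDegree_spec', ← hx, ← hb] at h1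
    have h2 : (1 : ℤ) + δ * x = δ * b := by exact_mod_cast h1
    rcases hδ with e' | e' <;> rw [e'] at h2 ⊢ <;> omega
  have hb0 : 0 < b := Blocks.charDegree_pos (η 1).2
  refine ⟨by omega, ?_⟩
  -- the two sums
  set z := ι (r (dh k)) with hz
  have hG : (Nat.card G : ℂ) ≠ 0 := Char.card_ne_zero
  have key : ∑ ψ : Cfsg.IrrCharacter G, Cfsg.classInner (fam π e 1) (ψ : G → ℂ) *
      ((ψ : G → ℂ) z ^ 2 / (ψ : G → ℂ) 1) =
      (Nat.card G : ℂ)⁻¹ * ∑ a : G, fam π e 1 (a * z * a⁻¹ * z) := by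
    have e0 : ∀ ψ : Cfsg.IrrCharacter G, (ψ : G → ℂ) z ^ 2 / (ψ : G → ℂ) 1 =
        (Nat.card G : ℂ)⁻¹ * ∑ a, (ψ : G → ℂ) (a * z * a⁻¹ * z) := by
      intro ψ
      have h' := CharArith.classMult ψ.2 z z
      have h1 := Char.IsIrr.one_ne_zero ψ.2
      field_simp
      linear_combination -h'
    simp only [e0, Finset.mul_sum]
    rw [Finset.sum_comm]
    refine Finset.sum_congr rfl fun a _ => ?_
    rw [← apply_eq_sum (Proj.isClassFunction_fam 1) (a * z * a⁻¹ * z), Finset.mul_sum]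
    exact Finset.sum_congr rfl fun ψ _ => by ring
  rw [L.sum_good h D he hg1, h.sum_fam_conj D he hk hconj] at key
  simp only [Char.charDegree_spec', ← hx, ← hb, hetaz 1 hg1, hvz,
    show (Blocks.triv G : G → ℂ) z = 1 from rfl,
    show Cfsg.charDegree (Blocks.triv G : G → ℂ) = 1 from
      Blocks.charDegree_eq (n := 1) (by simp [Blocks.triv]), Nat.cast_one, one_pow, div_one] at key
  have hx0 : (x : ℂ) ≠ 0 := Nat.cast_ne_zero.2 (Blocks.charDegree_pos χ.2).ne'
  have hb0' : (b : ℂ) ≠ 0 := Nat.cast_ne_zero.2 hb0.ne'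
  have hbx' : (b : ℂ) = x + δ := by exact_mod_cast hbx
  have hδ2 : (δ : ℂ) ^ 2 = 1 := by rcases hδ with e' | e' <;> simp [e']
  field_simp at key
  rw [hbx'] at key
  rcases hδ with e' | e' <;> subst e' <;> push_cast at key ⊢ <;> linear_combination key

end Cfsg.Agent.BlockThms.Dihedral
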