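import Cfsg.Agent.BlockThms.Dihedral.Block
import Cfsg.Agent.BlockThms.Dihedral.Labels
import Cfsg.Agent.BlockChar.LowDefect

/-!
# The members of the principal block and their values on the rotations
-/

set_option autoImplicit false

namespace Cfsg.Agent.BlockThms.Dihedral

open DihedralGroup Cfsg.Agent.Invol Cfsg.Agent
open scoped ComplexConjugate

universe u

variable {G : Type u} [Group G] [Fintype G] {P : Sylow 2 G} {k : ℕ}
  {ι : DihedralGroup (2 ^ k) →* G} {π : cJ ι →* DihedralGroup (2 ^ k)}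
  {M : Ideal Cfsg.AlgInt} {e : AddChar (ZMod (2 ^ k)) ℂ}
  {χ₁ χ₂ χ₃ : Cfsg.IrrCharacter G} {η : ZMod (2 ^ k) → Cfsg.IrrCharacter G} {δ₁ δ₂ δ₃ : ℤ}

theorem mult_index_zero (h : Proj ι π) (D : DData P k ι) {f : G → ℂ}
    (hf : Cfsg.IsClassFunction G f) : Cfsg.classInner (fam π e 0) f = 0 := by
  classical
  rw [h.classInner_fam D 0 hf]
  simp [AddChar.map_zero_eq_one]

namespace Labels

variable (L : Labels π e χ₁ χ₂ χ₃ η δ₁ δ₂ δ₃) (h : Proj ι π) (D : DData P k ι)
  (hM : Cfsg.IsPModular 2 M) (he : e.IsPrimitive)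
include L h D hM

theorem mem₁ : χ₁ ∈ Cfsg.principalBlock M G := by
  refine h.mem_principal_of_mult_ne_zero D hM (e := e) (j := dh k) ?_
  rw [L.mult_eps _ L.ne_one₁, if_pos rfl]
  rcases L.sign₁ with e1 | e1 <;> simp [e1]

theorem mem₂ : χ₂ ∈ Cfsg.principalBlock M G := by
  refine h.mem_principal_of_mult_ne_zero D hM (e := e) (j := dh k) ?_
  rw [L.mult_eps _ L.ne_one₂, if_neg L.ne₁₂.symm, if_pos rfl]
  rcases L.sign₂ with e1 | e1 <;> simp [e1]

theorem mem₃ : χ₃ ∈ Cfsg.principalBlock M G := by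
  refine h.mem_principal_of_mult_ne_zero D hM (e := e) (j := dh k) ?_
  rw [L.mult_eps _ L.ne_one₃, if_neg L.ne₁₃.symm, if_neg L.ne₂₃.symm, if_pos rfl]
  rcases L.sign₃ with e1 | e1 <;> simp [e1]

theorem mem_eta {a : ZMod (2 ^ k)} (ha : Good a) : η a ∈ Cfsg.principalBlock M G := by
  refine h.mem_principal_of_mult_ne_zero D hM (e := e) (j := a) ?_
  rw [L.mult_good a ha _ (L.eta_ne a ha).2.2.2, if_neg (L.eta_ne a ha).1, if_pos rfl]
  rcases L.sign₁ with e1 | e1 <;> simp [e1]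

include he

theorem value₁ {s : ZMod (2 ^ k)} (hs : s ≠ 0) : (χ₁ : G → ℂ) (ι (r s)) = δ₁ := by
  classical
  rw [h.value_eq D hM he (L.mem₁ h D hM) hs]
  have : ∀ j, e (j * s) * conj (Cfsg.classInner (fam π e j) (χ₁ : G → ℂ)) =
      (e (s * j) - (if j = 0 then 1 else 0)) * δ₁ := by
    intro j
    by_cases hj : j = 0
    · subst hj
      rw [mult_index_zero h D (Char.isClassFunction_of_isIrr χ₁.2)]
      simp [AddChar.map_zero_eq_one]
    · rw [if_neg hj, sub_zero, mul_comm j]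
      by_cases hd : j = dh k
      · rw [hd, L.mult_eps _ L.ne_one₁, if_pos rfl, map_intCast]
      · rw [L.mult_good j ⟨hj, hd⟩ _ L.ne_one₁, if_pos rfl, map_intCast]
  rw [Finset.sum_congr rfl fun j _ => this j, ← Finset.sum_mul, Finset.sum_sub_distrib,
    sum_apply_mul he, if_neg hs, Finset.sum_ite_eq', if_pos (Finset.mem_univ _)]
  ring

theorem value₂₃ {s : ZMod (2 ^ k)} (hs : s ≠ 0) :
    (χ₂ : G → ℂ) (ι (r s)) = -(δ₂ * e (dh k * s)) ∧
      (χ₃ : G → ℂ) (ι (r s)) = -(δ₃ * e (dh k * s)) := by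
  classical
  have key : ∀ (χ : Cfsg.IrrCharacter G) (δ : ℤ), χ ∈ Cfsg.principalBlock M G →
      χ ≠ Blocks.triv G → χ ≠ χ₁ → (∀ a, Good a → χ ≠ η a) →
      Cfsg.classInner (fam π e (dh k)) (χ : G → ℂ) = δ →
      (χ : G → ℂ) (ι (r s)) = -(δ * e (dh k * s)) := by
    intro χ δ hχ h0 h1 hη hd
    rw [h.value_eq D hM he hχ hs, Finset.sum_eq_single (dh k), hd, map_intCast, mul_comm]
    · intro j _ hj
      by_cases hj0 : j = 0
      · subst hj0
        rw [mult_index_zero h D (Char.isClassFunction_of_isIrr χ.2), map_zero, mul_zero]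
      · rw [L.mult_good j ⟨hj0, hj⟩ _ h0, if_neg h1, if_neg (hη j ⟨hj0, hj⟩), map_zero, mul_zero]
    · simp
  refine ⟨key χ₂ δ₂ (L.mem₂ h D hM) L.ne_one₂ L.ne₁₂.symm
    (fun a ha => (L.eta_ne a ha).2.1.symm) ?_, key χ₃ δ₃ (L.mem₃ h D hM) L.ne_one₃ L.ne₁₃.symm
    (fun a ha => (L.eta_ne a ha).2.2.1.symm) ?_⟩
  · rw [L.mult_eps _ L.ne_one₂, if_neg L.ne₁₂.symm, if_pos rfl]
  · rw [L.mult_eps _ L.ne_one₃, if_neg L.ne₁₃.symm, if_neg L.ne₂₃.symm, if_pos rfl]

theorem value_eta {a : ZMod (2 ^ k)} (ha : Good a) {s : ZMod (2 ^ k)} (hs : s ≠ 0) :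
    (η a : G → ℂ) (ι (r s)) = δ₁ * (e (a * s) + e (-(a * s))) := by
  classical
  obtain ⟨h1, h2, h3, h0⟩ := L.eta_ne a ha
  rw [h.value_eq D hM he (L.mem_eta h D hM ha) hs]
  have hne := ha.ne_neg D.pos
  have : ∀ j, e (j * s) * conj (Cfsg.classInner (fam π e j) (η a : G → ℂ)) =
      -((if j = a then e (a * s) * δ₁ else 0) + if j = -a then e (-(a * s)) * δ₁ else 0) := by
    intro j
    by_cases hj : j = a
    · subst hj
      rw [L.mult_good j ha _ h0, if_neg h1, if_pos rfl, if_pos rfl, if_neg hne]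
      simp only [map_neg, map_intCast, add_zero]; ring
    · by_cases hj' : j = -a
      · subst hj'
        have hna : Good (-a) := ⟨neg_ne_zero.2 ha.1, fun e' => ha.2 (by
          rw [← neg_neg a, e', neg_dh D.pos])⟩
        rw [L.mult_good _ hna _ h0, if_neg h1, if_pos (L.eta_neg a ha).symm, if_neg hne.symm,
          if_pos rfl, neg_mul]
        simp only [map_neg, map_intCast, zero_add]; ring
      · rw [if_neg hj, if_neg hj', add_zero, neg_zero]
        by_cases hj0 : j = 0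
        · rw [hj0, mult_index_zero h D (Char.isClassFunction_of_isIrr (η a).2), map_zero, mul_zero]
        by_cases hd : j = dh k
        · rw [hd, L.mult_eps _ h0, if_neg h1, if_neg h2, if_neg h3, map_zero, mul_zero]
        · rw [L.mult_good j ⟨hj0, hd⟩ _ h0, if_neg h1, if_neg, map_zero, mul_zero]
          intro e'
          rcases L.eta_eq a j ha ⟨hj0, hd⟩ e' with h' | h'
          exacts [hj h'.symm, hj' (by rw [h', neg_neg])]
  rw [Finset.sum_congr rfl fun j _ => this j, Finset.sum_neg_distrib, Finset.sum_add_distrib,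
    Finset.sum_ite_eq', Finset.sum_ite_eq', if_pos (Finset.mem_univ _), if_pos (Finset.mem_univ _)]
  ring

/-- There are no other members. -/
theorem exhaust (hk : 2 ≤ k) {χ : Cfsg.IrrCharacter G} (hχ : χ ∈ Cfsg.principalBlock M G) :
    χ = Blocks.triv G ∨ χ = χ₁ ∨ χ = χ₂ ∨ χ = χ₃ ∨ ∃ a, Good a ∧ χ = η a := by
  classical
  by_contra hn
  simp only [not_or, not_exists, not_and] at hn
  obtain ⟨h0, h1, h2, h3, hη⟩ := hn
  have hval : ∀ s, s ≠ 0 → (χ : G → ℂ) (ι (r s)) = 0 := by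
    intro s hs
    rw [h.value_eq D hM he hχ hs, neg_eq_zero]
    refine Finset.sum_eq_zero fun j _ => ?_
    by_cases hj0 : j = 0
    · rw [hj0, mult_index_zero h D (Char.isClassFunction_of_isIrr χ.2), map_zero, mul_zero]
    by_cases hd : j = dh k
    · rw [hd, L.mult_eps _ h0, if_neg h1, if_neg h2, if_neg h3, map_zero, mul_zero]
    · rw [L.mult_good j ⟨hj0, hd⟩ _ h0, if_neg h1, if_neg (hη j ⟨hj0, hd⟩), map_zero, mul_zero]
  -- divisibility of the degree
  let H : Subgroup G := (rotSub k).map ι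
  have : Fintype H := Fintype.ofFinite H
  have hH : Nat.card H = 2 ^ k := by
    rw [Subgroup.card_map_of_injective D.inj,
      Nat.card_congr (show rotSub k ≃ ZMod (2 ^ k) from
        { toFun := fun d => rotIdx d.1
          invFun := fun i => ⟨r i, i, rfl⟩
          left_inv := fun ⟨_, i, rfl⟩ => rfl
          right_inv := fun _ => rfl }), Nat.card_zmod]
  obtain ⟨q, hq⟩ := Char.classInner_isCharacter_eq_natCast
    (Char.isCharacter_comp H.subtype (Char.IsIrr.isCharacter χ.2))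
    (Char.isCharacter_one (G := H))
  rw [Cfsg.classInner, Finset.sum_eq_single (1 : H) (fun x _ hx => ?_) (by simp)] at hq
  swap
  · obtain ⟨_, ⟨i, rfl⟩, hi⟩ := Subgroup.mem_map.1 x.2
    have : i ≠ 0 := fun e' => hx (Subtype.ext (by rw [← hi, e', ← one_def, map_one]; rfl))
    show (χ : G → ℂ) (x : G) * _ = 0
    rw [← hi, hval i this, zero_mul]
  simp only [map_one, mul_one, hH, Nat.cast_pow, Nat.cast_ofNat] at hq
  rw [inv_mul_eq_iff_eq_mul₀ (pow_ne_zero _ two_ne_zero)] at hq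
  have hdeg : Cfsg.charDegree (χ : G → ℂ) = 2 ^ k * q :=
    Blocks.charDegree_eq (n := 2 ^ k * q) (by push_cast; simpa using hq)
  have hfac : k ≤ (Cfsg.charDegree (χ : G → ℂ)).factorization 2 := by
    refine (Nat.Prime.pow_dvd_iff_le_factorization Nat.prime_two
      (Blocks.charDegree_pos χ.2).ne').1 ?_
    rw [hdeg]; exact dvd_mul_right _ _
  set B := Cfsg.principalBlock M G
  have hmin : BlockChar.minVal 2 B = 0 := by
    have h' := BlockChar.minVal_le (p := 2) (Blocks.triv_mem_principalBlock (G := G) hM)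
    rw [Blocks.charDegree_eq (n := 1) (by simp [Blocks.triv]), Nat.factorization_one] at h'
    simpa [B] using h'
  have hd : Cfsg.blockDefect 2 B = k + 1 := by
    have h' := P.card_eq_multiplicity
    rw [D.card_sylow, ← pow_succ'] at h'
    rw [BlockChar.blockDefect_eq, hmin, Nat.sub_zero]
    exact (Nat.pow_right_injective le_rfl h').symm
  have h2d : 2 ≤ Cfsg.blockDefect 2 B := by omega
  have h' := BlockChar.height_add_two_le hM (Blocks.isPBlock_principalBlock M) hχ h2d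
  rw [BlockChar.blockHeight_eq, hmin, hd] at h'
  omega

omit hM in
/-- The relations at the elements of odd order. -/
theorem odd_relations {g : G} (hg : Odd (orderOf g)) :
    1 + δ₁ * (χ₁ : G → ℂ) g = -δ₂ * (χ₂ : G → ℂ) g - δ₃ * (χ₃ : G → ℂ) g ∧
      ∀ a, Good a → 1 + δ₁ * (χ₁ : G → ℂ) g = δ₁ * (η a : G → ℂ) g := by
  refine ⟨?_, fun a ha => ?_⟩
  · have h1 := L.sum_eps h D he (fun χ => (χ : G → ℂ) g)
    rw [apply_eq_sum (Proj.isClassFunction_fam (dh k)), Proj.fam_odd hg] at h1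
    have h2 : (Blocks.triv G : G → ℂ) g = 1 := rfl
    simp only [h2] at h1
    linear_combination -h1
  · have h1 := L.sum_good h D he ha (fun χ => (χ : G → ℂ) g)
    rw [apply_eq_sum (Proj.isClassFunction_fam a), Proj.fam_odd hg] at h1
    have h2 : (Blocks.triv G : G → ℂ) g = 1 := rfl
    simp only [h2] at h1
    linear_combination -h1

end Labels

end Cfsg.Agent.BlockThms.Dihedral
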