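import Mathlib
import Cfsg.Agent.Invol.DihedralSylow

/-!
# The centralizer of the central involution of a dihedral Sylow subgroup

The projection of the centralizer onto the Sylow subgroup, and the rotation part `kSub`.
-/

set_option autoImplicit false

namespace Cfsg.Agent.BlockThms.Dihedral

open DihedralGroup Cfsg.Agent.Invol

universe u

variable {G : Type u} [Group G]

/-- A dihedral Sylow subgroup presented by a prescribed pair of generators. -/
theorem ddata_of_gen [Finite G] {P : Sylow 2 G} {k : ℕ} (hk : 2 ≤ k) {σ τ : G}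
    (hσ : σ ∈ (P : Subgroup G)) (hτ : τ ∈ (P : Subgroup G)) (hσo : orderOf σ = 2 ^ k)
    (hτo : orderOf τ = 2) (hrel : τ * σ * τ⁻¹ = σ⁻¹)
    (hrange : ∀ ι : DihedralGroup (2 ^ k) →* G, Function.Injective ι → ι (r 1) = σ →
      ι (sr 0) = τ → (P : Subgroup G) ≤ ι.range) :
    ∃ ι : DihedralGroup (2 ^ k) →* G, DData P k ι ∧ ι (r 1) = σ ∧ ι (sr 0) = τ := by
  let f : ZMod (2 ^ k) → G := fun i => σ ^ i.val
  have hadd : ∀ i j, f (i + j) = f i * f j := fun i j => by
    show σ ^ (i + j).val = σ ^ i.val * σ ^ j.val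
    rw [← pow_add, ZMod.val_add]
    exact (pow_eq_pow_mod _ (hσo ▸ pow_orderOf_eq_one σ)).symm
  have h0 : f 0 = 1 := by simp [f]
  have hneg : ∀ i, f (-i) = (f i)⁻¹ := fun i =>
    eq_inv_of_mul_eq_one_left (by rw [← hadd, neg_add_cancel, h0])
  have hττ : τ * τ = 1 := by rw [← pow_two, ← hτo, pow_orderOf_eq_one]
  have hswap : ∀ i, f i * τ = τ * f (-i) := fun i => by
    have h : τ * f i * τ⁻¹ = f (-i) := by
      rw [hneg]
      show τ * σ ^ i.val * τ⁻¹ = _
      rw [← conj_pow, hrel, inv_pow]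
    calc f i * τ = (τ * τ) * f i * τ := by rw [hττ, one_mul]
      _ = τ * (τ * f i * τ⁻¹) := by
          rw [show τ⁻¹ = τ from inv_eq_of_mul_eq_one_right hττ]
          simp only [mul_assoc]
      _ = τ * f (-i) := by rw [h]
  let F : DihedralGroup (2 ^ k) → G
    | r i => f i
    | sr i => τ * f i
  have hmul : ∀ a b, F (a * b) = F a * F b := by
    rintro (i | i) (j | j)
    · rw [r_mul_r]; exact hadd i j
    · rw [r_mul_sr]
      show τ * f (j - i) = f i * (τ * f j)
      rw [← mul_assoc, hswap, mul_assoc, ← hadd, neg_add_eq_sub]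
    · rw [sr_mul_r]
      show τ * f (i + j) = τ * f i * f j
      rw [hadd, mul_assoc]
    · rw [sr_mul_sr]
      show f (j - i) = τ * f i * (τ * f j)
      rw [mul_assoc τ (f i), ← mul_assoc (f i), hswap, mul_assoc τ (f (-i)), ← mul_assoc τ τ, hττ,
        one_mul, ← hadd, neg_add_eq_sub]
  let ι : DihedralGroup (2 ^ k) →* G := MonoidHom.mk' F hmul
  have hr1 : ι (r 1) = σ := by
    show σ ^ (1 : ZMod (2 ^ k)).val = σ
    rw [ZMod.val_one_eq_one_mod, Nat.mod_eq_of_lt (Nat.one_lt_two_pow (by omega)), pow_one]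
  have hs0 : ι (sr 0) = τ := by
    show τ * f 0 = τ
    rw [h0, mul_one]
  have hinj : Function.Injective ι := by
    rw [← MonoidHom.ker_eq_bot_iff, eq_bot_iff]
    rintro (i | i) hi
    · have hi' : σ ^ i.val = 1 := hi
      have hd := orderOf_dvd_of_pow_eq_one hi'
      rw [hσo] at hd
      have : i.val = 0 := Nat.eq_zero_of_dvd_of_lt hd i.val_lt
      rw [ZMod.val_eq_zero] at this
      rw [this, Subgroup.mem_bot]
      rfl
    · exfalso
      have hi' : τ * f i = 1 := hi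
      have hτ' : τ = (f i)⁻¹ := eq_inv_of_mul_eq_one_left hi'
      have hc : τ * σ * τ⁻¹ = σ := by
        rw [hτ', inv_inv]
        show (σ ^ i.val)⁻¹ * σ * σ ^ i.val = σ
        group
      rw [hrel] at hc
      have h2 : orderOf σ ∣ 2 := orderOf_dvd_of_pow_eq_one (by
        rw [pow_two]; nth_rewrite 1 [← hc]; exact inv_mul_cancel σ)
      rw [hσo] at h2
      have h4 : 2 ^ 2 ≤ 2 ^ k := Nat.pow_le_pow_right (by norm_num) hk
      have := Nat.le_of_dvd (by norm_num) h2
      omega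
  refine ⟨ι, ⟨by omega, hinj, le_antisymm ?_ (hrange ι hinj hr1 hs0)⟩, hr1, hs0⟩
  rintro _ ⟨(i | i), rfl⟩
  · exact pow_mem hσ _
  · exact mul_mem hτ (pow_mem hσ _)

theorem map_natCast_rotation {k : ℕ} (ι : DihedralGroup (2 ^ k) →* G) (l : ℕ) :
    ι (r 1) ^ l = ι (r (l : ZMod (2 ^ k))) := by
  rw [← map_pow, r_one_pow]

/-- The centralizer of the central involution. -/
abbrev cJ {k : ℕ} (ι : DihedralGroup (2 ^ k) →* G) : Subgroup G :=
  Subgroup.centralizer ({ι (r (dh k))} : Set G)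

/-- A projection of the centralizer of the central involution onto the Sylow subgroup, with
kernel of odd order. -/
structure Proj {k : ℕ} (ι : DihedralGroup (2 ^ k) →* G)
    (π : cJ ι →* DihedralGroup (2 ^ k)) : Prop where
  sec : ∀ (d : DihedralGroup (2 ^ k)) (h : ι d ∈ cJ ι), π ⟨ι d, h⟩ = d
  odd : ∀ x, π x = 1 → Odd (orderOf x)

variable {P : Sylow 2 G} {k : ℕ} {ι : DihedralGroup (2 ^ k) →* G}

theorem iota_mem (D : DData P k ι) (d : DihedralGroup (2 ^ k)) : ι d ∈ cJ ι :=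
  Subgroup.mem_centralizer_singleton_iff.2 (D.z_comm (D.mem d))

/-- The embedding into the centralizer. -/
def iotaC (D : DData P k ι) : DihedralGroup (2 ^ k) →* cJ ι :=
  ι.codRestrict _ (iota_mem D)

theorem coe_iotaC (D : DData P k ι) (d : DihedralGroup (2 ^ k)) : (iotaC D d : G) = ι d := rfl

theorem exists_proj [Finite G] (D : DData P k ι) :
    ∃ π : cJ ι →* DihedralGroup (2 ^ k), Proj ι π := by
  obtain ⟨T, κ, DT, hT, hκ⟩ := D.centralizer_data
  have hzc : ∀ a, ¬ IsConj (κ (sr a)) (κ (r (dh k))) := by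
    intro a h
    obtain ⟨c, hc⟩ := isConj_iff.1 h.symm
    have hcomm : c * κ (r (dh k)) = κ (r (dh k)) * c := Subtype.ext (by
      rw [Subgroup.coe_mul, Subgroup.coe_mul, hκ]
      exact Subgroup.mem_centralizer_singleton_iff.1 c.2)
    rw [hcomm, mul_inv_cancel_right] at hc
    exact DihedralGroup.noConfusion rfl (heq_of_eq (DT.inj hc))
  have hc := DT.complement_of_not_conj hzc
  have hcomp := Fusion.isComplement'_pResidual hc T
  have hcop := Fusion.coprime_card_pResidual_of_hasNormalPComplement hc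
  set N := Cfsg.pResidual 2 (cJ ι) with hN
  let f := (QuotientGroup.mk' N).comp κ
  have hfi : Function.Injective f := by
    rw [← MonoidHom.ker_eq_bot_iff, eq_bot_iff]
    intro d hd
    have h1 : κ d ∈ N := (QuotientGroup.eq_one_iff _).1 hd
    have h2 : κ d ∈ (⊥ : Subgroup (cJ ι)) := by
      rw [← hcomp.disjoint.eq_bot]
      exact ⟨h1, DT.mem d⟩
    rw [Subgroup.mem_bot] at h2 ⊢
    exact DT.inj (h2.trans (map_one κ).symm)
  have hfs : Function.Surjective f := by
    intro q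
    obtain ⟨x, rfl⟩ := QuotientGroup.mk_surjective q
    obtain ⟨⟨⟨n, hn⟩, ⟨t, ht⟩⟩, hnt⟩ := (hcomp : Subgroup.IsComplement' _ _).2 x
    change n * t = x at hnt
    obtain ⟨d, hd⟩ := DT.exists_eq ht
    refine ⟨d, ?_⟩
    show (QuotientGroup.mk' N) (κ d) = _
    rw [← hnt, hd, QuotientGroup.mk_mul, (QuotientGroup.eq_one_iff n).2 hn, one_mul]
    rfl
  let e := MulEquiv.ofBijective f ⟨hfi, hfs⟩
  refine ⟨e.symm.toMonoidHom.comp (QuotientGroup.mk' N), fun d h => ?_, fun x hx => ?_⟩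
  · show e.symm ((QuotientGroup.mk' N) ⟨ι d, h⟩) = d
    have : (⟨ι d, h⟩ : cJ ι) = κ d := Subtype.ext (hκ d).symm
    rw [this]
    exact e.symm_apply_apply d
  · have hxN : x ∈ N := by
      refine (QuotientGroup.eq_one_iff x).1 ?_
      have h1 := congrArg e hx
      rw [map_one] at h1
      simpa using h1
    refine Nat.not_even_iff_odd.1 fun he => ?_
    have hd := he.two_dvd.trans (Subgroup.orderOf_dvd_natCard N hxN)
    exact absurd (Nat.dvd_gcd hd dvd_rfl) (by rw [hcop]; norm_num)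

namespace Proj

variable {π : cJ ι →* DihedralGroup (2 ^ k)} (h : Proj ι π) (D : DData P k ι)
include h

theorem proj_iotaC (d : DihedralGroup (2 ^ k)) : π (iotaC D d) = d := h.sec d _

theorem eq_one_of_two_power {x : cJ ι} (h1 : π x = 1) {j : ℕ} (hj : x ^ 2 ^ j = 1) : x = 1 := by
  rw [← orderOf_eq_one_iff]
  exact Nat.Coprime.eq_one_of_dvd
    ((Nat.coprime_two_right.2 (h.odd x h1)).pow_right j) (orderOf_dvd_of_pow_eq_one hj)

theorem eq_one_of_sq {x : cJ ι} (h1 : π x = 1) (hj : x * x = 1) : x = 1 :=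
  h.eq_one_of_two_power h1 (j := 1) (by rw [pow_one, pow_two, hj])

include D

/-- The only involution over the central one. -/
theorem eq_z {x : cJ ι} (hx : x * x = 1) (hπ : π x = r (dh k)) :
    x = iotaC D (r (dh k)) := by
  set z := iotaC D (r (dh k)) with hz
  have hzz : z * z = 1 := by rw [hz, ← map_mul, r_mul_r, ← two_mul, two_dh D.pos, ← one_def, map_one]
  have hcomm : x * z = z * x := Subtype.ext (Subgroup.mem_centralizer_singleton_iff.1 x.2)
  have h1 : x * z = 1 := by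
    refine h.eq_one_of_sq ?_ ?_
    · rw [map_mul, hz, h.proj_iotaC D, hπ, r_mul_r, ← two_mul, two_dh D.pos, ← one_def]
    · calc x * z * (x * z) = x * (z * x) * z := by group
        _ = x * (x * z) * z := by rw [hcomm]
        _ = (x * x) * (z * z) := by group
        _ = 1 := by rw [hx, hzz, one_mul]
  calc x = x * (z * z) := by rw [hzz, mul_one]
    _ = z := by rw [← mul_assoc, h1, one_mul]

/-- An element over a nontrivial rotation has the central involution among its powers. -/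
theorem exists_pow_eq_z [Finite G] {x : cJ ι} {i : ZMod (2 ^ k)} (hx : π x = r i) (hi : i ≠ 0) :
    ∃ n : ℕ, x ^ n = iotaC D (r (dh k)) := by
  obtain ⟨b, hb⟩ : ∃ b, orderOf (π x) = 2 ^ b := by
    have hd : orderOf (π x) ∣ 2 ^ (k + 1) := by
      have := orderOf_dvd_natCard (π x)
      rwa [DihedralGroup.nat_card, ← pow_succ'] at this
    obtain ⟨b, -, hb⟩ := (Nat.dvd_prime_pow Nat.prime_two).1 hd
    exact ⟨b, hb⟩
  rcases b with _ | b
  · rw [pow_zero, orderOf_eq_one_iff, hx, one_def, r.injEq] at hb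
    exact absurd hb hi
  set y := x ^ 2 ^ (b + 1) with hy
  have hπy : π y = 1 := by rw [hy, map_pow, ← hb, pow_orderOf_eq_one]
  set m := orderOf y with hm
  have hmodd : ¬ 2 ∣ m := fun h2 => Nat.not_even_iff_odd.2 (h.odd y hπy) (even_iff_two_dvd.2 h2)
  refine ⟨2 ^ b * m, h.eq_z D ?_ ?_⟩
  · rw [← pow_add, ← two_mul, ← mul_assoc, ← pow_succ', pow_mul, ← hy, hm, pow_orderOf_eq_one]
  · have hne : π x ^ (2 ^ b * m) ≠ 1 := by
      intro he
      have hd := orderOf_dvd_of_pow_eq_one he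
      rw [hb, pow_succ] at hd
      exact hmodd (Nat.dvd_of_mul_dvd_mul_left (pow_pos two_pos b) hd)
    have hsq : π x ^ (2 ^ b * m) * π x ^ (2 ^ b * m) = 1 := by
      rw [← pow_add, ← two_mul, ← mul_assoc, ← pow_succ', ← hb, pow_mul, pow_orderOf_eq_one,
        one_pow]
    rw [map_pow]
    rw [hx] at hne hsq ⊢
    rw [r_pow] at hne hsq ⊢
    rw [r_mul_r, one_def, r.injEq, ← two_mul] at hsq
    rcases two_mul_zero D.pos hsq with h0 | h0
    · exact absurd (by rw [h0, ← one_def]) hne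
    · rw [h0]

/-- Over a nontrivial rotation a conjugating element centralizes the central involution. -/
theorem mem_cJ_of_conj [Finite G] {x y : cJ ι} {i j : ZMod (2 ^ k)} (hx : π x = r i) (hi : i ≠ 0)
    (hy : π y = r j) {g : G} (hg : g * (x : G) * g⁻¹ = (y : G)) : g ∈ cJ ι := by
  obtain ⟨n, hn⟩ := h.exists_pow_eq_z D hx hi
  set z := iotaC D (r (dh k)) with hz
  have hzz : z * z = 1 := by rw [hz, ← map_mul, r_mul_r, ← two_mul, two_dh D.pos, ← one_def, map_one]
  have e : ((y ^ n : cJ ι) : G) = g * (z : G) * g⁻¹ := by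
    rw [← hn, Subgroup.coe_pow, Subgroup.coe_pow, ← hg, conj_pow]
  have hv1 : y ^ n ≠ 1 := fun h1 => by
    rw [h1, Subgroup.coe_one] at e
    have hz1 : (z : G) = 1 := conj_eq_one_iff.1 e.symm
    have := D.z_order
    rw [show ι (r (dh k)) = 1 from hz1, orderOf_one] at this
    omega
  have hv2 : y ^ n * y ^ n = 1 := Subtype.ext (by
    rw [Subgroup.coe_mul, e, Subgroup.coe_one]
    calc g * (z : G) * g⁻¹ * (g * (z : G) * g⁻¹) = g * ((z : G) * z) * g⁻¹ := by group
      _ = 1 := by rw [← Subgroup.coe_mul, hzz, Subgroup.coe_one, mul_one, mul_inv_cancel])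
  have hπv : π (y ^ n) * π (y ^ n) = 1 := by rw [← map_mul, hv2, map_one]
  rw [map_pow, hy, r_pow, r_mul_r, one_def, r.injEq, ← two_mul] at hπv
  have hv : y ^ n = z := by
    rcases two_mul_zero D.pos hπv with h0 | h0
    · exact absurd (h.eq_one_of_sq (by rw [map_pow, hy, r_pow, h0, ← one_def]) hv2) hv1
    · exact h.eq_z D hv2 (by rw [map_pow, hy, r_pow, h0])
  rw [hv] at e
  exact Subgroup.mem_centralizer_singleton_iff.2 (mul_inv_eq_iff_eq_mul.1 e.symm)

/-- A `2`-element is conjugate under the kernel to the section. -/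
theorem exists_conj_section [Finite G] {x : cJ ι} (hx : IsPGroup 2 (Subgroup.zpowers x)) :
    ∃ g : cJ ι, π g = 1 ∧ g * x * g⁻¹ = iotaC D (π x) := by
  obtain ⟨T, κ, DT, -, hκ⟩ := D.centralizer_data
  obtain ⟨c, hc⟩ := DT.exists_conj_le _ hx
  obtain ⟨d, hd⟩ := DT.exists_eq (hc ⟨x, Subgroup.mem_zpowers x, rfl⟩)
  have hd' : iotaC D d = c * x * c⁻¹ := by
    have h1 : iotaC D d = κ d := Subtype.ext (hκ d).symm
    rw [h1]
    exact hd
  have hπd : d = π c * π x * (π c)⁻¹ := by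
    have := congrArg π hd'
    rwa [h.proj_iotaC D, map_mul, map_mul, map_inv] at this
  refine ⟨iotaC D (π c)⁻¹ * c, by rw [map_mul, h.proj_iotaC D, inv_mul_cancel], ?_⟩
  calc iotaC D (π c)⁻¹ * c * x * (iotaC D (π c)⁻¹ * c)⁻¹
      = iotaC D (π c)⁻¹ * (c * x * c⁻¹) * (iotaC D (π c)⁻¹)⁻¹ := by group
    _ = iotaC D ((π c)⁻¹ * d * (π c)⁻¹⁻¹) := by rw [← hd', map_mul, map_mul, map_inv, map_inv, map_inv]
    _ = iotaC D (π x) := by rw [hπd]; congr 1; group

end Proj

/-- The rotation subgroup of the dihedral group. -/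
def rotSub (k : ℕ) : Subgroup (DihedralGroup (2 ^ k)) where
  carrier := {d | ∃ i, d = r i}
  one_mem' := ⟨0, one_def⟩
  mul_mem' := by
    rintro _ _ ⟨i, rfl⟩ ⟨j, rfl⟩
    exact ⟨i + j, r_mul_r i j⟩
  inv_mem' := by
    rintro _ ⟨i, rfl⟩
    exact ⟨-i, inv_r i⟩

/-- The exponent of a rotation. -/
def rotIdx {N : ℕ} : DihedralGroup N → ZMod N
  | r i => i
  | sr i => i

/-- The preimage of the rotations. -/
def kSub (π : cJ ι →* DihedralGroup (2 ^ k)) : Subgroup G :=
  ((rotSub k).comap π).map (cJ ι).subtype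

variable {π : cJ ι →* DihedralGroup (2 ^ k)}

theorem mem_kSub_iff {x : G} :
    x ∈ kSub π ↔ ∃ (hx : x ∈ cJ ι) (i : ZMod (2 ^ k)), π ⟨x, hx⟩ = r i := by
  constructor
  · rintro ⟨y, hy, rfl⟩
    exact ⟨y.2, hy⟩
  · rintro ⟨hx, hi⟩
    exact ⟨⟨x, hx⟩, hi, rfl⟩

theorem kSub_le : kSub π ≤ cJ ι := fun _ hx => (mem_kSub_iff.1 hx).1

/-- The exponent of the rotation below an element of `kSub`. -/
def ridx (π : cJ ι →* DihedralGroup (2 ^ k)) (x : kSub π) : ZMod (2 ^ k) :=
  rotIdx (π ⟨x, kSub_le x.2⟩)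

theorem proj_kSub (x : kSub π) : π ⟨x, kSub_le x.2⟩ = r (ridx π x) := by
  obtain ⟨_, i, hi⟩ := mem_kSub_iff.1 x.2
  rw [ridx, hi]
  rfl

theorem ridx_mul (x y : kSub π) : ridx π (x * y) = ridx π x + ridx π y := by
  have h : (⟨((x * y : kSub π) : G), kSub_le (x * y).2⟩ : cJ ι) =
      ⟨(x : G), kSub_le x.2⟩ * ⟨(y : G), kSub_le y.2⟩ := rfl
  conv_lhs => rw [ridx, h, map_mul, proj_kSub, proj_kSub, r_mul_r]
  rfl

end Cfsg.Agent.BlockThms.Dihedral
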